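import Cfsg.Agent.Lib.Blocks.BrauerChar.Expansion

/-!
# The simple representations and Brauer characters of a block

* `InB hM B s`, `inB_or`, `inB_disjoint`;
* `exists_decomp`: decomposition numbers (integers supported in the block);
* `exists_regular_mult`: multiplicities in the regular module of the block, all positive;
* `blockRank_le_card`: there are at least `l(B)` simple representations in `B`.
-/

set_option autoImplicit false
set_option linter.unusedSectionVars false
set_option linter.style.haveILetI false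
set_option maxHeartbeats 1000000
set_option synthInstance.maxHeartbeats 200000

namespace Cfsg.Agent.BrauerChar

open Cfsg Cfsg.Agent.Blocks Cfsg.Agent.BrauerPairs Cfsg.Agent.EqualDegree Representation

variable {G : Type*} [Group G] [Finite G] {p : ℕ} {M : Ideal AlgInt} (hM : IsPModular p M)

/-- The simple representation lies in the block. -/
def InB (B : Set (IrrCharacter G)) (s : SimpR hM G) : Prop :=
  letI := ModRep.resField hM
  (sRep s).asAlgebraHom (blk M B) = 1

variable {hM}

theorem inB_or {B : Set (IrrCharacter G)} (hB : IsPBlock M B) (s : SimpR hM G) :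
    InB hM B s ∨ (letI := ModRep.resField hM; (sRep s).asAlgebraHom (blk M B) = 0) := by
  letI := ModRep.resField hM
  haveI := ModRep.isAlgClosed_res hM
  obtain ⟨c, hc⟩ := CycDefect.central_scalar (sRep s) (fixed_blk (M := M) B)
  have h2 := congrArg (sRep s).asAlgebraHom (blk_mul_self hM hB)
  rw [map_mul, hc, smul_mul_smul_comm, one_mul] at h2
  by_cases h : c = 0
  · exact Or.inr (by rw [hc, h, zero_smul])
  · refine Or.inl ?_
    haveI : Nontrivial (Module.End (Res M) (Fin (sdim s) → Res M)) := by
      haveI : Nonempty (Fin (sdim s)) := ⟨⟨0, sdim_pos s⟩⟩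
      infer_instance
    rw [← sub_eq_zero] at h2
    have h2' : (c * c - c) • (1 : Module.End (Res M) (Fin (sdim s) → Res M)) = 0 :=
      (sub_smul _ _ _).trans h2
    have h3 : c * c - c = 0 := (smul_eq_zero.1 h2').resolve_right one_ne_zero
    have h4 : c * (c - 1) = 0 := by linear_combination h3
    show (sRep s).asAlgebraHom (blk M B) = 1
    rw [hc, sub_eq_zero.1 ((mul_eq_zero.1 h4).resolve_left h), one_smul]

theorem inB_disjoint {B B' : Set (IrrCharacter G)} (hB : IsPBlock M B) (hB' : IsPBlock M B')
    {s : SimpR hM G} (h : InB hM B s) (h' : InB hM B' s) : B = B' := by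
  letI := ModRep.resField hM
  by_contra hne
  have h2 := congrArg (sRep s).asAlgebraHom (blk_mul_of_ne hM hB hB' hne)
  rw [map_mul, map_zero, h, h', one_mul] at h2
  haveI : Nontrivial (Module.End (Res M) (Fin (sdim s) → Res M)) := by
    haveI : Nonempty (Fin (sdim s)) := ⟨⟨0, sdim_pos s⟩⟩
    infer_instance
  exact one_ne_zero h2

variable [Fact p.Prime]

theorem mul_bL_comm {B : Set (IrrCharacter G)} (hB : IsPBlock M B) (u : Star.Loc hM G) :
    u * bL hM hB = bL hM hB * u := by
  induction u using MonoidAlgebra.induction_linear with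
  | zero => simp
  | add a b ha hb => rw [add_mul, mul_add, ha, hb]
  | single g r =>
    have h : MonoidAlgebra.single g r = r • Star.el hM g := by
      rw [Star.el, MonoidAlgebra.smul_single, smul_eq_mul, mul_one]
    rw [h, smul_mul_assoc, el_mul_bL hM hB g, mul_smul_comm]

theorem idem_mul_bL {B : Set (IrrCharacter G)} (hB : IsPBlock M B) {u : Star.Loc hM G}
    (hu : u * u = u) : u * bL hM hB * (u * bL hM hB) = u * bL hM hB := by
  rw [mul_bL_comm hB u, mul_assoc, ← mul_assoc u, mul_bL_comm hB u, mul_assoc, hu, ← mul_assoc,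
    bL_mul_self hM hB]

open scoped Classical in
theorem rkS_mul_bL {B : Set (IrrCharacter G)} (hB : IsPBlock M B) (s : SimpR hM G)
    (u : Star.Loc hM G) : rkS hM s (u * bL hM hB) = if InB hM B s then rkS hM s u else 0 := by
  letI := ModRep.resField hM
  simp only [rkS, map_mul, rd_bL hM hB]
  split_ifs with h
  · rw [rk, map_mul, h, mul_one, rk]
  · rw [rk, map_mul, (inB_or hB s).resolve_left h, mul_zero, LinearMap.range_zero, finrank_bot]

open scoped Classical in
theorem trL_mul_bL {B : Set (IrrCharacter G)} (hB : IsPBlock M B) (χ : IrrCharacter G)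
    (u : Star.Loc hM G) : Star.trL hM (χ : G → ℂ) (u * bL hM hB) =
      if χ ∈ B then Star.trL hM (χ : G → ℂ) u else 0 := by
  have := Fintype.ofFinite G
  obtain ⟨n, ρ, hirr, hρ⟩ := χ.2
  haveI := hirr
  have hcomm : ∀ g v, ρ g (ρ.asAlgebraHom (Star.inc hM (bL hM hB)) v) =
      ρ.asAlgebraHom (Star.inc hM (bL hM hB)) (ρ g v) := by
    intro g v
    have h := congrArg (fun a => ρ.asAlgebraHom (Star.inc hM a) v) (el_mul_bL hM hB g)
    have he : Star.inc hM (Star.el hM g) = MonoidAlgebra.single g (1 : ℂ) := by
      rw [Star.el, Star.inc, MonoidAlgebra.mapRingHom_single, map_one]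
    simpa [map_mul, Module.End.mul_apply, he] using h
  obtain ⟨c, hc⟩ := ModRep.exists_scalar ρ _ fun g v => (hcomm g v).symm
  have hc' : ρ.asAlgebraHom (Star.inc hM (bL hM hB)) = c • 1 :=
    LinearMap.ext fun v => by simpa using hc v
  have htr : ∀ a : Star.Loc hM G, Star.trL hM (χ : G → ℂ) a =
      LinearMap.trace ℂ _ (ρ.asAlgebraHom (Star.inc hM a)) := fun a => by
    rw [Star.trL, ← hρ, Star.tr_eq_trace]
  have hn : (χ : G → ℂ) 1 = (n : ℂ) := by
    rw [← hρ, Representation.char_one, Module.finrank_fintype_fun_eq_card, Fintype.card_fin]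
  have hn0 : (n : ℂ) ≠ 0 := hn ▸ irr_one_ne_zero χ
  have hb := htr (bL hM hB)
  rw [hc', map_smul, LinearMap.trace_one, Module.finrank_fintype_fun_eq_card, Fintype.card_fin,
    smul_eq_mul] at hb
  rw [htr, map_mul, map_mul, hc', mul_smul_comm, mul_one, map_smul, smul_eq_mul, ← htr]
  split_ifs with h
  · rw [(trL_bL hM hB χ).1 h, charDegree_cast, hn] at hb
    rw [show c = 1 from (mul_eq_right₀ hn0).1 hb.symm, one_mul]
  · rw [(trL_bL hM hB χ).2 h] at hb
    rw [(mul_eq_zero.1 hb.symm).resolve_right hn0, zero_mul]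

/-- The decomposition numbers. -/
theorem exists_decomp {B : Set (IrrCharacter G)} (hB : IsPBlock M B) {χ : IrrCharacter G}
    (hχ : χ ∈ B) : ∃ d : SimpR hM G → ℤ, (∀ s, ¬ InB hM B s → d s = 0) ∧
      (∀ u : Star.Loc hM G, u * u = u →
        Star.trL hM (χ : G → ℂ) u = ∑ s, (d s : ℂ) * (rkS hM s u : ℂ)) ∧
      ∀ y, ¬ p ∣ orderOf y → (χ : G → ℂ) y = ∑ s, (d s : ℂ) * brChar hM s y := by
  classical
  obtain ⟨m, hm⟩ := exists_mult_gen (hM := hM)
    (Char.isGeneralizedCharacter_of_isCharacter (Char.IsIrrCharacter.isCharacter χ.2))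
  let d : SimpR hM G → ℤ := fun s => if InB hM B s then m s else 0
  have hd : ∀ u : Star.Loc hM G, u * u = u →
      Star.trL hM (χ : G → ℂ) u = ∑ s, (d s : ℂ) * (rkS hM s u : ℂ) := fun u hu => by
    have h := hm _ (idem_mul_bL hB hu)
    rw [trL_mul_bL hB, if_pos hχ] at h
    rw [h]
    refine Finset.sum_congr rfl fun s _ => ?_
    rw [rkS_mul_bL hB]
    simp only [d]
    split_ifs <;> simp
  exact ⟨d, fun s hs => if_neg hs, hd, fun y hy => apply_of_expansion _ _ hd hy⟩

/-- A surjection from the regular module. -/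
theorem exists_mult_regular (s : SimpR hM G) [Fintype G] :
    ∃ m : SimpR hM G → ℕ, 0 < m s ∧ ∀ u : Star.Loc hM G, u * u = u →
      Star.trL hM (fun g => Cfsg.indFun (⊥ : Subgroup G) (fun _ => (1 : ℂ)) g) u =
        ((∑ t, m t * rkS hM t u : ℕ) : ℂ) := by
  classical
  letI := ModRep.resField hM
  haveI := ModRep.isAlgClosed_res hM
  let E : Subgroup G := ⊥
  have := Fintype.ofFinite (G ⧸ E)
  let π := monMat hM E 1
  let ρ : Representation (Res M) G (G ⧸ E → Res M) :=
    { toFun := fun g => Matrix.toLin' ((π g).map (Star.resHom hM))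
      map_one' := by rw [map_one, Matrix.map_one _ (map_zero _) (map_one _), Matrix.toLin'_one]; rfl
      map_mul' := fun a b => by rw [map_mul, Matrix.map_mul, Matrix.toLin'_mul]; rfl }
  let v₀ : Fin (sdim s) → Res M := Pi.single ⟨0, sdim_pos s⟩ 1
  have hv₀ : v₀ ≠ 0 := by simp [v₀]
  let f : (G ⧸ E → Res M) →ₗ[Res M] (Fin (sdim s) → Res M) :=
    Fintype.linearCombination (Res M) fun i : G ⧸ E => sRep s i.out v₀
  have hfg : ∀ g v, f (ρ g v) = sRep s g (f v) := by
    intro g
    suffices h : f ∘ₗ ρ g = (sRep s g) ∘ₗ f from fun v => LinearMap.congr_fun h v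
    refine (Pi.basisFun (Res M) (G ⧸ E)).ext fun j => ?_
    simp only [LinearMap.comp_apply, Pi.basisFun_apply]
    have hcol : ρ g (Pi.single j 1) = Pi.single (QuotientGroup.mk (g * j.out) : G ⧸ E) 1 := by
      show Matrix.toLin' _ _ = _
      rw [Matrix.toLin'_apply, Matrix.mulVec_single_one]
      funext i
      show Star.resHom hM (lamR hM E 1 (i.out⁻¹ * g * j.out)) = _
      rw [lamR, Pi.single_apply]
      by_cases h : i.out⁻¹ * g * j.out ∈ E
      · rw [dif_pos h, if_pos]
        · exact res_one hM
        · rw [← QuotientGroup.out_eq' i, QuotientGroup.eq, ← mul_assoc]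
          exact h
      · rw [dif_neg h, map_zero, if_neg]
        intro he
        refine h ?_
        rw [← QuotientGroup.out_eq' i, QuotientGroup.eq, ← mul_assoc] at he
        exact he
    have hout : (QuotientGroup.mk (g * j.out) : G ⧸ E).out = g * j.out := by
      obtain ⟨⟨a, ha⟩, he⟩ := QuotientGroup.mk_out_eq_mul E (g * j.out)
      rw [he]
      show g * j.out * a = _
      rw [Subgroup.mem_bot.1 ha, mul_one]
    rw [hcol]
    simp only [f, Fintype.linearCombination_apply_single, one_smul, hout, map_mul, Module.End.mul_apply]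
  have hf : Function.Surjective f := by
    rw [← LinearMap.range_eq_top]
    let W : Subrepresentation (sRep s) := ⟨LinearMap.range f, fun g v hv => by
      obtain ⟨w, rfl⟩ := hv
      exact ⟨ρ g w, hfg g w⟩⟩
    haveI : IsSimpleOrder (Subrepresentation (sRep s)) := sRep_irreducible s
    rcases eq_bot_or_eq_top W with h | h
    · exfalso
      refine hv₀ ?_
      have h' : LinearMap.range f = ⊥ := congrArg Subrepresentation.toSubmodule h
      have hout : (QuotientGroup.mk (1 : G) : G ⧸ E).out = 1 := by
        obtain ⟨⟨a, ha⟩, he⟩ := QuotientGroup.mk_out_eq_mul E (1 : G)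
        rw [he]
        exact (one_mul a).trans (Subgroup.mem_bot.1 ha)
      have hmem : v₀ ∈ LinearMap.range f :=
        ⟨Pi.single (QuotientGroup.mk (1 : G) : G ⧸ E) 1, by
          simp only [f, Fintype.linearCombination_apply_single, one_smul, hout, map_one,
            Module.End.one_apply]⟩
      rwa [h', Submodule.mem_bot] at hmem
    · exact congrArg Subrepresentation.toSubmodule h
  obtain ⟨m, hms, hm⟩ := exists_mult_quot ρ s f hf hfg
  refine ⟨m, hms, fun u hu => ?_⟩
  have hfun : (fun g => ((Matrix.trace (π g) : locRing hM) : ℂ)) =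
      fun g => Cfsg.indFun E (fun _ => (1 : ℂ)) g := funext fun g => by
    rw [trace_monMat]; rfl
  rw [← hfun]
  -- both rank expansions compute the rank of the same idempotent matrix
  let L := MonoidAlgebra.lift (locRing hM) (Matrix (G ⧸ E) (G ⧸ E) (locRing hM)) G π
  have hρ : ρ.asAlgebraHom (Star.rd hM u) = Matrix.toLin' ((L u).map (Star.resHom hM)) :=
    asAlgebraHom_rd_lift π ρ (fun g => rfl) u
  rw [trL_lift_eq_finrank π hu, ← hρ]
  exact congrArg Nat.cast (hm _ (by rw [← map_mul, hu]))

/-- There are at least `l(B)` simple representations in a block. -/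
theorem blockRank_le_card {B : Set (IrrCharacter G)} (hB : IsPBlock M B) :
    blockRank p B ≤ Nat.card {s : SimpR hM G // InB hM B s} := by
  classical
  have := Fintype.ofFinite G
  rw [blockRank, Nat.card_eq_fintype_card]
  refine le_trans (Submodule.finrank_mono (t := Submodule.span ℂ
    (Set.range fun s : {s : SimpR hM G // InB hM B s} => brChar hM s.1)) ?_) (finrank_range_le_card _)
  rw [Submodule.span_le]
  rintro _ ⟨χ, hχ, rfl⟩
  obtain ⟨d, hd0, -, hd⟩ := exists_decomp (hM := hM) hB hχ
  have e : pRegularPart p (χ : G → ℂ) =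
      ∑ s : {s : SimpR hM G // InB hM B s}, (d s.1 : ℂ) • brChar hM s.1 := by
    funext y
    rw [Finset.sum_apply, pRegularPart]
    simp only [Pi.smul_apply, smul_eq_mul]
    rw [← Finset.sum_subtype (Finset.univ.filter (InB hM B)) (by simp)
      (fun s => (d s : ℂ) * brChar hM s y)]
    split_ifs with hy
    · rw [hd y hy]
      exact (Finset.sum_filter_of_ne fun s _ h => by
        by_contra hs
        exact h (by rw [hd0 s hs, Int.cast_zero, zero_mul])).symm
    · exact (Finset.sum_eq_zero fun s _ => by
        rw [brChar_of_singular _ (not_not.1 hy), mul_zero]).symm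
  simp only [SetLike.mem_coe, e]
  exact Submodule.sum_mem _ fun s _ => Submodule.smul_mem _ _ (Submodule.subset_span ⟨s, rfl⟩)

end Cfsg.Agent.BrauerChar
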