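import Cfsg.Agent.Lib.Blocks.BrauerChar.Virtual
import Cfsg.Agent.Lib.Blocks.WeakOrth
import Cfsg.Agent.Lib.BlockDefect.RegInner

/-!
# The sum of the squares of the degrees of a block

`exists_sum_deg_sq`: it is `∑_φ φ(1) Φ_φ(1)`, a sum of at least `l(B)` positive terms; every
`φ(1)` is divisible by every common divisor of the degrees and every `Φ_φ(1)` also by the order of
a Sylow subgroup.
-/

set_option autoImplicit false
set_option linter.unusedSectionVars false
set_option linter.style.haveILetI false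
set_option maxHeartbeats 1000000
set_option synthInstance.maxHeartbeats 200000

open scoped ComplexConjugate

namespace Cfsg.Agent.BrauerChar

open Cfsg Cfsg.Agent.Blocks Cfsg.Agent.BrauerPairs Cfsg.Agent.EqualDegree

variable {G : Type*} [Group G] [Finite G] {p : ℕ} {M : Ideal AlgInt} [Fact p.Prime]

open scoped Classical in
/-- The factorisation of the sum of the squares of the degrees. -/
theorem exists_sum_deg_sq (hM : IsPModular p M) {B : Set (IrrCharacter G)} (hB : IsPBlock M B) :
    ∃ (l : ℕ) (m c : Fin l → ℕ), blockRank p B ≤ l ∧ (∀ i, 0 < m i) ∧ (∀ i, 0 < c i) ∧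
      (∀ i, p ^ (Nat.card G).factorization p ∣ c i) ∧
      (∀ g : ℕ, (∀ χ ∈ B, g ∣ charDegree (χ : G → ℂ)) → ∀ i, g ∣ m i ∧ g ∣ c i) ∧
      ∑ᶠ χ ∈ B, charDegree (χ : G → ℂ) ^ 2 = ∑ i, m i * c i := by
  letI := ModRep.resField hM
  have := Fintype.ofFinite G
  have := Fintype.ofFinite (IrrCharacter G)
  set T := Finset.univ.filter (· ∈ B) with hT
  have hfin : ∀ {β : Type} [AddCommMonoid β] (f : IrrCharacter G → β),
      ∑ᶠ χ ∈ B, f χ = ∑ χ ∈ T, f χ := by
    intro β _ f
    rw [finsum_mem_eq_sum_of_inter_support_eq]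
    ext; simp [T]
  -- decomposition numbers
  have hdec : ∀ χ : IrrCharacter G, ∃ d : SimpR hM G → ℤ,
      χ ∈ B → ((∀ s, ¬ InB hM B s → d s = 0) ∧
        (∀ u : Star.Loc hM G, u * u = u →
          Star.trL hM (χ : G → ℂ) u = ∑ s, (d s : ℂ) * (rkS hM s u : ℂ)) ∧
        ∀ y, ¬ p ∣ orderOf y → (χ : G → ℂ) y = ∑ s, (d s : ℂ) * brChar hM s y) := by
    intro χ
    by_cases hχ : χ ∈ B
    · obtain ⟨d, h⟩ := exists_decomp (hM := hM) hB hχ
      exact ⟨d, fun _ => h⟩
    · exact ⟨0, fun h => absurd h hχ⟩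
  choose d hd using hdec
  -- the projective characters
  let Φ : SimpR hM G → G → ℂ := fun s => ∑ χ ∈ T, (d χ s : ℂ) • (χ : G → ℂ)
  let C : SimpR hM G → ℤ := fun s => ∑ χ ∈ T, d χ s * (charDegree (χ : G → ℂ) : ℤ)
  have hmT : ∀ {χ}, χ ∈ T ↔ χ ∈ B := fun {χ} => by simp [T]
  have hΦ1 : ∀ s, Φ s 1 = (C s : ℂ) := fun s => by
    simp [Φ, C, Finset.sum_apply, charDegree_cast]
  have hint : blockInd B ∈ intRing hM := blockInd_mem_intRing hM hB
  have hvan : ∀ s z, p ∣ orderOf z → Φ s z = 0 := by
    intro s z hz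
    have h := coeff_unique (hM := hM) (a := fun t => conj (Φ t z)) (b := fun _ => (0 : ℂ))
      fun y hy => by
        have h0 := weak_orth hM hint hy hz
        rw [hfin] at h0
        rw [Finset.sum_eq_zero (fun t _ => zero_mul (brChar hM t y)), ← h0]
        simp only [Φ, Finset.sum_apply, map_sum, Pi.smul_apply, smul_eq_mul, map_mul,
          Finset.sum_mul, map_intCast]
        rw [Finset.sum_comm]
        refine Finset.sum_congr rfl fun χ hχ => ?_
        rw [(hd χ (hmT.1 hχ)).2.2 y hy, Finset.sum_mul]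
        exact Finset.sum_congr rfl fun t _ => by ring
    simpa using congrFun h s
  have hCp : ∀ s, (p : ℤ) ^ (Nat.card G).factorization p ∣ C s := by
    intro s
    obtain ⟨P⟩ := (inferInstance : Nonempty (Sylow p G))
    have := Fintype.ofFinite (P : Subgroup G)
    choose k hk using fun χ : IrrCharacter G =>
      BlockDefect.sum_subgroup_eq (Char.IsIrrCharacter.isCharacter χ.2) (P : Subgroup G)
    refine ⟨∑ χ ∈ T, d χ s * (k χ : ℤ), ?_⟩
    have h1 : ∑ u : (P : Subgroup G), Φ s (u : G) =
        ((p : ℤ) ^ (Nat.card G).factorization p * ∑ χ ∈ T, d χ s * (k χ : ℤ) : ℤ) := by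
      simp only [Φ, Finset.sum_apply, Pi.smul_apply, smul_eq_mul]
      rw [Finset.sum_comm]
      simp only [← Finset.mul_sum, hk, P.card_eq_multiplicity]
      push_cast
      rw [Finset.mul_sum]
      exact Finset.sum_congr rfl fun χ _ => by ring
    have h2 : ∑ u : (P : Subgroup G), Φ s (u : G) = (C s : ℂ) := by
      rw [Finset.sum_eq_single (1 : (P : Subgroup G))]
      · exact hΦ1 s
      · intro u _ hu
        refine hvan s _ ?_
        obtain ⟨j, hj⟩ := IsPGroup.iff_orderOf.1 P.isPGroup' u
        rw [Subgroup.orderOf_coe, hj]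
        rcases j with _ | j
        · exact absurd (orderOf_eq_one_iff.1 (hj.trans (pow_zero p))) hu
        · exact dvd_pow_self p (Nat.succ_ne_zero j)
      · exact fun h => absurd (Finset.mem_univ _) h
    exact Int.cast_injective (α := ℂ) (h2.symm.trans h1)
  -- the regular module
  have hC : ∀ s, InB hM B s → 0 < C s := by
    intro s hs
    obtain ⟨n, hns, hn⟩ := exists_mult_regular (hM := hM) s
    have hreg : ∀ u : Star.Loc hM G,
        Star.trL hM (fun g => Cfsg.indFun (⊥ : Subgroup G) (fun _ => (1 : ℂ)) g) u =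
          ∑ χ : IrrCharacter G, (χ : G → ℂ) 1 * Star.trL hM (χ : G → ℂ) u := by
      intro u
      have e : (fun g => Cfsg.indFun (⊥ : Subgroup G) (fun _ => (1 : ℂ)) g) =
          fun g => ∑ χ : IrrCharacter G, (χ : G → ℂ) 1 * (χ : G → ℂ) g := by
        funext g
        rw [Char.sum_degree_mul_apply, indFun, Subgroup.card_bot, Nat.cast_one, inv_one, one_mul]
        by_cases hg : g = 1
        · subst hg
          have e : ∀ x : G, extendByZero (⊥ : Subgroup G) (fun _ => (1 : ℂ)) (x⁻¹ * 1 * x) = 1 := by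
            intro x
            rw [mul_one, inv_mul_cancel, extendByZero]
            exact Subtype.val_injective.extend_apply _ _ (1 : (⊥ : Subgroup G))
          rw [Finset.sum_congr rfl fun x _ => e x]
          simp [Nat.card_eq_fintype_card]
        · rw [if_neg hg]
          refine Finset.sum_eq_zero fun x _ => ?_
          rw [extendByZero, Function.extend_apply']
          · rfl
          · rintro ⟨⟨a, ha⟩, hax⟩
            refine hg ?_
            have h2 : x⁻¹ * g * x = 1 := hax.symm.trans (Subgroup.mem_bot.1 ha)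
            calc g = x * (x⁻¹ * g * x) * x⁻¹ := by group
              _ = 1 := by rw [h2, mul_one, mul_inv_cancel]
      rw [e]
      simp only [Star.trL, Star.tr_def, Finset.mul_sum]
      rw [Finset.sum_comm]
      exact Finset.sum_congr rfl fun χ _ => Finset.sum_congr rfl fun g _ => by ring
    have h := coeff_unique (hM := hM)
      (a := fun t => if InB hM B t then (n t : ℂ) else 0) (b := fun t => (C t : ℂ)) fun y hy => by
        rw [← apply_of_expansion (fun g => ∑ χ ∈ T, (χ : G → ℂ) 1 * (χ : G → ℂ) g)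
          (fun t => if InB hM B t then (n t : ℂ) else 0) ?_ hy]
        · simp only [C, Int.cast_sum, Finset.sum_mul]
          rw [Finset.sum_comm]
          refine Finset.sum_congr rfl fun χ hχ => ?_
          rw [(hd χ (hmT.1 hχ)).2.2 y hy, Finset.mul_sum, ← charDegree_cast χ]
          exact Finset.sum_congr rfl fun t _ => by push_cast; ring
        · intro u hu
          have h1 := hn _ (idem_mul_bL hB hu)
          rw [hreg] at h1
          simp only [trL_mul_bL hB, mul_ite, mul_zero, ← Finset.sum_filter, rkS_mul_bL hB] at h1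
          have h2 : Star.trL hM (fun g => ∑ χ ∈ T, (χ : G → ℂ) 1 * (χ : G → ℂ) g) u =
              ∑ χ ∈ T, (χ : G → ℂ) 1 * Star.trL hM (χ : G → ℂ) u := by
            simp only [Star.trL, Star.tr_def, Finset.mul_sum]
            rw [Finset.sum_comm]
            exact Finset.sum_congr rfl fun χ _ => Finset.sum_congr rfl fun g _ => by ring
          rw [h2, h1, Nat.cast_sum, Finset.sum_filter]
          refine Finset.sum_congr rfl fun t _ => ?_
          split_ifs <;> simp
    have hs' := congrFun h s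
    simp only [if_pos hs] at hs'
    have : (n s : ℤ) = C s := by exact_mod_cast hs'
    omega
  -- the degrees of the Brauer characters
  have hm : ∀ g : ℕ, (∀ χ ∈ B, g ∣ charDegree (χ : G → ℂ)) → ∀ s, InB hM B s →
      (g : ℤ) ∣ (sdim s : ℕ) := by
    intro g hg s hs
    obtain ⟨n, hn⟩ := exists_brChar_eq (hM := hM) hB hs
    have h1 := hn 1 (by rw [orderOf_one]; exact hM.1.not_dvd_one)
    rw [brChar_one, hfin] at h1
    simp only [← charDegree_cast] at h1
    have h2 : ((sdim s : ℕ) : ℤ) = ∑ χ ∈ T, n χ * (charDegree (χ : G → ℂ) : ℤ) := by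
      exact_mod_cast h1
    rw [h2]
    exact Finset.dvd_sum fun χ hχ => (Int.natCast_dvd_natCast.2 (hg χ (hmT.1 hχ))).mul_left _
  let S := {s : SimpR hM G // InB hM B s}
  let e := Fintype.equivFin S
  refine ⟨Fintype.card S, fun i => sdim (e.symm i).1, fun i => (C (e.symm i).1).toNat,
    by rw [← Nat.card_eq_fintype_card]; exact blockRank_le_card hB, fun i => sdim_pos _,
    fun i => ?_, fun i => ?_, fun g hg i => ⟨?_, ?_⟩, ?_⟩
  · show 0 < (C (e.symm i).1).toNat
    exact Int.lt_toNat.2 (by exact_mod_cast hC _ (e.symm i).2)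
  · rw [← Int.natCast_dvd_natCast, Int.toNat_of_nonneg (hC _ (e.symm i).2).le]
    exact_mod_cast hCp _
  · exact_mod_cast hm g hg _ (e.symm i).2
  · rw [← Int.natCast_dvd_natCast, Int.toNat_of_nonneg (hC _ (e.symm i).2).le]
    exact Finset.dvd_sum fun χ hχ => (Int.natCast_dvd_natCast.2 (hg χ (hmT.1 hχ))).mul_left _
  · rw [hfin, Fintype.sum_equiv e.symm (fun i => sdim (e.symm i).1 * (C (e.symm i).1).toNat)
      (fun s : S => sdim s.1 * (C s.1).toNat) (fun i => rfl)]
    have key : ∀ χ ∈ T, (charDegree (χ : G → ℂ) : ℤ) = ∑ s : S, d χ s.1 * (sdim s.1 : ℕ) := by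
      intro χ hχ
      have h1 := (hd χ (hmT.1 hχ)).2.2 1 (by rw [orderOf_one]; exact hM.1.not_dvd_one)
      rw [← charDegree_cast] at h1
      simp only [brChar_one] at h1
      have h2 : (charDegree (χ : G → ℂ) : ℤ) = ∑ s, d χ s * (sdim s : ℕ) := by exact_mod_cast h1
      rw [h2, ← Finset.sum_subtype (Finset.univ.filter (InB hM B)) (by simp)
        (fun s => d χ s * ((sdim s : ℕ) : ℤ))]
      exact (Finset.sum_filter_of_ne fun s _ h => by
        by_contra hs
        exact h (by rw [(hd χ (hmT.1 hχ)).1 s hs, zero_mul])).symm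
    zify
    calc ∑ χ ∈ T, (charDegree (χ : G → ℂ) : ℤ) ^ 2
        = ∑ χ ∈ T, ∑ s : S, (charDegree (χ : G → ℂ) : ℤ) * (d χ s.1 * (sdim s.1 : ℕ)) :=
          Finset.sum_congr rfl fun χ hχ => by rw [← Finset.mul_sum, ← key χ hχ, pow_two]
      _ = ∑ s : S, (sdim s.1 : ℕ) * C s.1 := by
          rw [Finset.sum_comm]
          simp only [C, Finset.mul_sum]
          exact Finset.sum_congr rfl fun s _ => Finset.sum_congr rfl fun χ _ => by ring
      _ = ∑ s : S, ((sdim s.1 : ℕ) : ℤ) * ((C s.1).toNat : ℤ) :=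
          Finset.sum_congr rfl fun s _ => by rw [Int.toNat_of_nonneg (hC _ s.2).le]

end Cfsg.Agent.BrauerChar
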