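import Cfsg.Agent.Lib.Blocks.BrauerChar.Simples
import Cfsg.Agent.Lib.Blocks.EqualDegree.Central
import Cfsg.Agent.Lib.CycDefect.Reps
import Cfsg.Agent.Lib.BlockTwo.Main
import Cfsg.Agent.Lib.Char.Monomial

/-!
# Brauer characters and the expansion of integral representations

* `eig hM y j`: the spectral idempotent of the regular element `y`;
* `rkS hM s u`: the rank of the reduction of `u` on the simple representation `s`;
* `brChar hM s`: the Brauer character (zero off the regular elements); `res_brChar`,
  `linearIndependent_brChar`;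
* `apply_of_expansion`: rank identities give character identities on regular elements;
* `exists_mult_matrix`, `exists_mult_gen`: rank expansions of integral matrix representations and
  of generalized characters.
-/

set_option autoImplicit false
set_option linter.unusedSectionVars false
set_option linter.style.haveILetI false
set_option maxHeartbeats 1000000
set_option synthInstance.maxHeartbeats 200000

namespace Cfsg.Agent.BrauerChar

open Cfsg Cfsg.Agent.Blocks Cfsg.Agent.BrauerPairs Cfsg.Agent.EqualDegree Representation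

variable {G : Type*} [Group G] [Finite G] {p : ℕ} {M : Ideal AlgInt} (hM : IsPModular p M)

/-- The field instance. -/
@[reducible] noncomputable def kField : Field (Res M) := ModRep.resField hM

/-- The simple representations modulo `M`. -/
abbrev SimpR (G : Type*) [Group G] : Type _ :=
  letI := ModRep.resField hM
  Simp (Res M) G

noncomputable instance fintypeSimpR : Fintype (SimpR hM G) :=
  letI := ModRep.resField hM
  haveI := ModRep.isAlgClosed_res hM
  Fintype.ofFinite _

/-- The rank of the reduction of `u` on a simple representation. -/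
noncomputable def rkS (s : SimpR hM G) (u : Star.Loc hM G) : ℕ :=
  letI := ModRep.resField hM
  rk (sRep s) (Star.rd hM u)

theorem trL_smul (χ : G → ℂ) (r : locRing hM) (a : Star.Loc hM G) :
    Star.trL hM χ (r • a) = (r : ℂ) * Star.trL hM χ a := by
  induction a using MonoidAlgebra.induction_linear with
  | zero => rw [smul_zero, trL_zero, mul_zero]
  | add a b ha hb => rw [smul_add, trL_add, trL_add, ha, hb, mul_add]
  | single g s =>
    rw [MonoidAlgebra.smul_single, trL_single, trL_single, smul_eq_mul, Subring.coe_mul, mul_assoc]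

/-- A root of unity of order `m`. -/
noncomputable def zeta (m : ℕ) : ℂ := Complex.exp (2 * Real.pi * Complex.I / m)

include hM in
theorem memR_zeta {m : ℕ} (hm : 0 < m) : MemLocalRing M (zeta m) :=
  memR_of_isIntegral hM ((Complex.isPrimitiveRoot_exp m hm.ne').isIntegral hm)

open scoped Classical in
/-- The eigenvalue in the local ring. -/
noncomputable def zR (m : ℕ) : locRing hM :=
  if h : 0 < m then ⟨zeta m, memR_zeta hM h⟩ else 1

open scoped Classical in
/-- The inverse of `m` in the local ring. -/
noncomputable def invR (m : ℕ) : locRing hM :=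
  if h : ¬ p ∣ m then ⟨(m : ℂ)⁻¹, memR_natCast_inv hM h⟩ else 0

theorem zR_pow {m : ℕ} (hm : 0 < m) : zR hM m ^ m = 1 := by
  refine Subtype.ext ?_
  rw [zR, dif_pos hm, SubmonoidClass.coe_pow]
  exact (Complex.isPrimitiveRoot_exp m hm.ne').pow_eq_one

/-- The spectral idempotent of `y` for the eigenvalue `ζ ^ j`. -/
noncomputable def eig (y : G) (j : ℕ) : Star.Loc hM G :=
  invR hM (orderOf y) • ∑ i ∈ Finset.range (orderOf y),
    zR hM (orderOf y) ^ ((orderOf y - j % orderOf y) * i) • Star.el hM (y ^ i)

theorem el_mul (a b : G) : Star.el hM a * Star.el hM b = Star.el hM (a * b) := by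
  rw [Star.el, Star.el, Star.el, MonoidAlgebra.single_mul_single, one_mul]

variable {hM}

theorem el_pow_mul_eig (y : G) (j i : ℕ) :
    Star.el hM (y ^ i) * eig hM y j = zR hM (orderOf y) ^ (j * i) • eig hM y j := by
  induction i with
  | zero => simp [Star.el, ← MonoidAlgebra.one_def]
  | succ i ih =>
    have hm := orderOf_pos y
    have h1 : Star.el hM y * eig hM y j = zR hM (orderOf y) ^ j • eig hM y j := by
      have hjj : zR hM (orderOf y) ^ j = zR hM (orderOf y) ^ (j % orderOf y) :=
        pow_eq_pow_mod _ (zR_pow hM hm)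
      set m := orderOf y with hmd
      set z := zR hM m
      set t := m - j % m with ht
      have hzt : z ^ (j % m) * z ^ t = 1 := by
        rw [← pow_add, ht, Nat.add_sub_cancel' (Nat.mod_lt j hm).le, zR_pow hM hm]
      rw [eig, ← hmd, ← ht, mul_smul_comm, smul_comm (z ^ j), hjj]
      congr 1
      rw [Finset.mul_sum, Finset.smul_sum]
      let f : ℕ → Star.Loc hM G := fun i => z ^ (t * i) • Star.el hM (y ^ i)
      have hl : ∀ i, Star.el hM y * f i = z ^ (j % m) • f (i + 1) := fun i => by
        simp only [f]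
        rw [mul_smul_comm, el_mul, ← pow_succ', smul_smul]
        congr 1
        rw [mul_add_one t i, pow_add, mul_left_comm, hzt, mul_one]
      show ∑ i ∈ Finset.range m, Star.el hM y * f i = ∑ i ∈ Finset.range m, z ^ (j % m) • f i
      simp only [hl, ← Finset.smul_sum]
      congr 1
      have h0 : f m = f 0 := by
        simp only [f]
        rw [mul_zero, pow_zero, mul_comm t m, pow_mul, zR_pow hM hm, one_pow, pow_zero,
          hmd, pow_orderOf_eq_one]
      have e1 := Finset.sum_range_succ f m
      rw [Finset.sum_range_succ' f m, h0] at e1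
      exact add_right_cancel e1
    rw [pow_succ, ← el_mul, mul_assoc, h1, mul_smul_comm, ih, smul_smul, mul_add_one, pow_add,
      mul_comm]

theorem invR_mul {y : G} (hy : ¬ p ∣ orderOf y) :
    invR hM (orderOf y) * (orderOf y : locRing hM) = 1 := by
  refine Subtype.ext ?_
  rw [invR, dif_pos hy]
  show ((orderOf y : ℂ))⁻¹ * ((orderOf y : locRing hM) : ℂ) = 1
  rw [SubringClass.coe_natCast]
  exact inv_mul_cancel₀ (Nat.cast_ne_zero.2 (orderOf_pos y).ne')

theorem eig_idem {y : G} (hy : ¬ p ∣ orderOf y) (j : ℕ) : eig hM y j * eig hM y j = eig hM y j := by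
  have hm := orderOf_pos y
  conv_lhs => arg 1; rw [eig]
  rw [smul_mul_assoc, Finset.sum_mul]
  simp only [smul_mul_assoc, el_pow_mul_eig, smul_smul]
  have h : ∀ i, zR hM (orderOf y) ^ ((orderOf y - j % orderOf y) * i) *
      zR hM (orderOf y) ^ (j * i) = 1 := fun i => by
    rw [← pow_add, ← add_mul, pow_mul, pow_add, pow_eq_pow_mod j (zR_pow hM hm), ← pow_add,
      Nat.sub_add_cancel (Nat.mod_lt j hm).le, zR_pow hM hm, one_pow]
  simp only [h, one_smul, Finset.sum_const, Finset.card_range]
  rw [← Nat.cast_smul_eq_nsmul (locRing hM), smul_smul, invR_mul hy, one_smul]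

theorem sum_zeta_smul_eig {y : G} (hy : ¬ p ∣ orderOf y) :
    ∑ j ∈ Finset.range (orderOf y), zR hM (orderOf y) ^ j • eig hM y j = Star.el hM y := by
  have hm := orderOf_pos y
  set m := orderOf y with hmd
  set z := zR hM m with hz
  simp only [eig, ← hmd, ← hz, Finset.smul_sum, smul_smul]
  rw [Finset.sum_comm]
  have hcoef : ∀ i ∈ Finset.range m, ∑ j ∈ Finset.range m,
      z ^ j * (invR hM m * z ^ ((m - j % m) * i)) = if i = 1 % m then 1 else 0 := by
    intro i hi
    have him := Finset.mem_range.1 hi
    refine Subtype.ext ?_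
    rw [AddSubmonoidClass.coe_finsetSum]
    have hzC : ((z : locRing hM) : ℂ) = zeta m := by rw [hz, zR, dif_pos hm]
    have hinv : ((invR hM m : locRing hM) : ℂ) = (m : ℂ)⁻¹ := by rw [invR, dif_pos hy]
    simp only [Subring.coe_mul, SubmonoidClass.coe_pow, hzC, hinv]
    have hprim := Complex.isPrimitiveRoot_exp m hm.ne'
    change IsPrimitiveRoot (zeta m) m at hprim
    have hz0 : zeta m ≠ 0 := hprim.ne_zero hm.ne'
    have e : ∀ j ∈ Finset.range m, zeta m ^ j * ((m : ℂ)⁻¹ * zeta m ^ ((m - j % m) * i)) =
        (m : ℂ)⁻¹ * (zeta m / zeta m ^ i) ^ j := by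
      intro j hj
      rw [Nat.mod_eq_of_lt (Finset.mem_range.1 hj), Nat.sub_mul, pow_sub₀ _ hz0
        (Nat.mul_le_mul_right i (Finset.mem_range.1 hj).le), pow_mul, hprim.pow_eq_one, one_pow,
        div_pow, ← pow_mul, mul_comm i j]
      ring
    rw [Finset.sum_congr rfl e, ← Finset.mul_sum]
    split_ifs with h
    · have h1 : zeta m / zeta m ^ i = 1 := by
        rw [h, ← pow_eq_pow_mod 1 hprim.pow_eq_one, pow_one, div_self hz0]
      simp [h1, inv_mul_cancel₀ (Nat.cast_ne_zero.2 hm.ne' : (m : ℂ) ≠ 0)]
    · have h1 : zeta m / zeta m ^ i ≠ 1 := by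
        intro h1
        rw [div_eq_one_iff_eq (pow_ne_zero _ hz0)] at h1
        have hlt : 1 % m < m := Nat.mod_lt _ hm
        refine h (hprim.pow_inj him hlt ?_)
        rw [← h1, ← pow_eq_pow_mod 1 hprim.pow_eq_one, pow_one]
      rw [geom_sum_eq h1, div_pow, ← pow_mul, mul_comm i m, pow_mul, hprim.pow_eq_one, one_pow,
        div_one, sub_self, zero_div, mul_zero, ZeroMemClass.coe_zero]
  rw [Finset.sum_congr rfl fun i hi => by rw [← Finset.sum_smul, hcoef i hi]]
  simp only [ite_smul, one_smul, zero_smul, Finset.sum_ite_eq', Finset.mem_range,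
    Nat.mod_lt _ hm, if_true]
  rw [hmd, pow_mod_orderOf, pow_one]

variable (hM)

open scoped Classical in
/-- The Brauer character of a simple representation, zero off the regular elements. -/
noncomputable def brChar (s : SimpR hM G) (y : G) : ℂ :=
  if ¬ p ∣ orderOf y then
    ∑ j ∈ Finset.range (orderOf y), zeta (orderOf y) ^ j * (rkS hM s (eig hM y j) : ℂ)
  else 0

variable {hM}

theorem memR_brChar (s : SimpR hM G) (y : G) : MemLocalRing M (brChar hM s y) := by
  rw [brChar]
  split_ifs with hy
  · exact memR_zero hM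
  · exact memR_sum hM _ fun j _ =>
      memR_mul hM (memR_pow hM (memR_zeta hM (orderOf_pos y)) j) (memR_natCast hM _)

theorem isIntegral_brChar (s : SimpR hM G) (y : G) : IsIntegral ℤ (brChar hM s y) := by
  rw [brChar]
  split_ifs with hy
  · exact isIntegral_zero
  · exact IsIntegral.sum _ fun j _ =>
      (((Complex.isPrimitiveRoot_exp _ (orderOf_pos y).ne').isIntegral (orderOf_pos y)).pow j).mul
        (isIntegral_natCast _)

/-- Rank identities give identities of functions on the regular elements. -/
theorem apply_of_expansion (θ : G → ℂ) (n : SimpR hM G → ℂ)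
    (h : ∀ u : Star.Loc hM G, u * u = u → Star.trL hM θ u = ∑ s, n s * (rkS hM s u : ℂ)) {y : G}
    (hy : ¬ p ∣ orderOf y) : θ y = ∑ s, n s * brChar hM s y := by
  haveI : Fact p.Prime := ⟨hM.1⟩
  have h1 : θ y = Star.trL hM θ (Star.el hM y) := by
    rw [Star.el, trL_single]
    simp
  rw [h1, ← sum_zeta_smul_eig hy, trL_sum]
  simp only [trL_smul, h _ (eig_idem hy _), brChar, if_pos hy, Finset.mul_sum]
  rw [Finset.sum_comm]
  refine Finset.sum_congr rfl fun s _ => Finset.sum_congr rfl fun j _ => ?_
  rw [SubmonoidClass.coe_pow, zR, dif_pos (orderOf_pos y)]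
  ring

/-- Brauer characters reduce to traces. -/
theorem res_brChar (s : SimpR hM G) {y : G} (hy : ¬ p ∣ orderOf y) :
    letI := ModRep.resField hM
    res M (brChar hM s y) = LinearMap.trace (Res M) _ (sRep s y) := by
  letI := ModRep.resField hM
  have hm := orderOf_pos y
  have hrd : ∀ (r : locRing hM) (a : Star.Loc hM G),
      Star.rd hM (r • a) = res M (r : ℂ) • Star.rd hM a := fun r a => Star.rd_smul r a
  have h1 := congrArg (fun a => LinearMap.trace (Res M) _ ((sRep s).asAlgebraHom (Star.rd hM a)))
    (sum_zeta_smul_eig (hM := hM) hy)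
  simp only [map_sum, hrd, map_smul] at h1
  have he : Star.rd hM (Star.el hM y) = MonoidAlgebra.single y 1 := by
    rw [Star.el, Star.rd, MonoidAlgebra.mapRingHom_single, map_one]
  rw [he, asAlgebraHom_single, one_smul] at h1
  rw [← h1, brChar, if_pos hy, res_sum hM _ fun j _ =>
    memR_mul hM (memR_pow hM (memR_zeta hM hm) j) (memR_natCast hM _)]
  refine Finset.sum_congr rfl fun j _ => ?_
  rw [res_mul hM (memR_pow hM (memR_zeta hM hm) j) (memR_natCast hM _), res_natCast hM,
    trace_idem (sRep s) (by rw [← map_mul, eig_idem hy]), smul_eq_mul, zR, dif_pos hm,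
    SubmonoidClass.coe_pow]
  rfl

theorem brChar_of_singular (s : SimpR hM G) {y : G} (hy : p ∣ orderOf y) : brChar hM s y = 0 :=
  if_neg (not_not_intro hy)

theorem brChar_one (s : SimpR hM G) :
    brChar hM s 1 = ((letI := ModRep.resField hM; sdim s : ℕ) : ℂ) := by
  letI := ModRep.resField hM
  have h1 : ¬ p ∣ orderOf (1 : G) := by rw [orderOf_one]; exact hM.1.not_dvd_one
  have h := sum_zeta_smul_eig (hM := hM) h1
  rw [orderOf_one, Finset.sum_range_one, pow_zero, one_smul] at h
  rw [brChar, if_pos h1, orderOf_one, Finset.sum_range_one, pow_zero, one_mul, rkS, h, Star.el,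
    Star.rd, MonoidAlgebra.mapRingHom_single, map_one, ← MonoidAlgebra.one_def, rk_sRep_one]

/-- Brauer characters are class functions. -/
theorem brChar_conj (s : SimpR hM G) (y h : G) : brChar hM s (h * y * h⁻¹) = brChar hM s y := by
  letI := ModRep.resField hM
  have ho : orderOf (h * y * h⁻¹) = orderOf y := SecondMain.orderOf_conj h y
  have hcj : ∀ j, eig hM (h * y * h⁻¹) j = Star.el hM h * eig hM y j * Star.el hM h⁻¹ := by
    intro j
    simp only [eig, ho, mul_smul_comm, smul_mul_assoc, Finset.mul_sum, Finset.sum_mul, el_mul,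
      conj_pow]
  have hr : ∀ j, rkS hM s (eig hM (h * y * h⁻¹) j) = rkS hM s (eig hM y j) := by
    intro j
    rw [rkS, rkS, rk, rk, hcj, map_mul, map_mul, map_mul, map_mul]
    have hel : ∀ g : G, (sRep s).asAlgebraHom (Star.rd hM (Star.el hM g)) = sRep s g := fun g => by
      rw [Star.el, Star.rd, MonoidAlgebra.mapRingHom_single, map_one, asAlgebraHom_single, one_smul]
    rw [hel, hel]
    let e : (Fin (sdim s) → Res M) ≃ₗ[Res M] (Fin (sdim s) → Res M) :=
      LinearEquiv.ofLinearMap (sRep s h) (sRep s h⁻¹)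
        (by rw [← Module.End.mul_eq_comp, ← map_mul, mul_inv_cancel, map_one]; rfl)
        (by rw [← Module.End.mul_eq_comp, ← map_mul, inv_mul_cancel, map_one]; rfl)
    set A := (sRep s).asAlgebraHom (Star.rd hM (eig hM y j))
    have hrange : LinearMap.range (sRep s h * A * sRep s h⁻¹) =
        (LinearMap.range A).map e.toLinearMap := by
      ext w
      constructor
      · rintro ⟨v, rfl⟩; exact ⟨A (sRep s h⁻¹ v), ⟨_, rfl⟩, rfl⟩
      · rintro ⟨_, ⟨v, rfl⟩, rfl⟩
        refine ⟨sRep s h v, ?_⟩
        show sRep s h (A (sRep s h⁻¹ (sRep s h v))) = sRep s h (A v)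
        rw [← Module.End.mul_apply (sRep s h⁻¹), ← map_mul, inv_mul_cancel, map_one]
        rfl
    rw [hrange]
    exact ((LinearEquiv.submoduleMap e _).finrank_eq).symm
  simp only [brChar, ho, hr]

/-- The Brauer characters are linearly independent. -/
theorem linearIndependent_brChar : LinearIndependent ℂ fun s : SimpR hM G => brChar hM s := by
  classical
  letI := ModRep.resField hM
  haveI := ModRep.isAlgClosed_res hM
  haveI := res_charP hM
  haveI : Fact p.Prime := ⟨hM.1⟩
  let e := (Fintype.equivFin (SimpR hM G)).symm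
  refine (linearIndependent_equiv e).1 ?_
  refine BlockTwo.linearIndependent_of_red hM _ (fun i g => memR_brChar _ g) ?_
  rw [Fintype.linearIndependent_iff]
  intro c hc
  have hli := (linearIndependent_sRep_trace (k := Res M) (G := G)).comp e e.injective
  rw [Fintype.linearIndependent_iff] at hli
  refine hli c (funext fun g => ?_)
  obtain ⟨u, y, hguy, hug, hyg, hu, hyco⟩ := Transfer.exists_pPart_mul (p := p) g
  have hyreg : ¬ p ∣ orderOf y := hM.1.coprime_iff_not_dvd.mp hyco.symm
  have hcuy : Commute u y := by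
    obtain ⟨i, hi⟩ := Subgroup.mem_zpowers_iff.mp hug
    obtain ⟨j, hj⟩ := Subgroup.mem_zpowers_iff.mp hyg
    have h1 := (Commute.refl g).zpow_zpow i j
    rwa [hi, hj] at h1
  have h := congrArg (fun z : MonoidAlgebra (Res M) G => z.coeff y) hc
  simp only [MonoidAlgebra.coeff_sum, Finsupp.finsetSum_apply, MonoidAlgebra.coeff_smul,
    Finsupp.smul_apply, smul_eq_mul, coeff_red, Function.comp_apply, MonoidAlgebra.coeff_zero,
    Finsupp.zero_apply] at h
  rw [Finset.sum_apply, Pi.zero_apply, ← h]
  refine Finset.sum_congr rfl fun i _ => ?_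
  simp only [Pi.smul_apply, smul_eq_mul, Function.comp_apply]
  rw [res_brChar _ hyreg, ModRep.trace_eq_pPrime hM.1 (sRep (e i)) hcuy hguy hu]

section matrix

variable {n : Type*} [Fintype n] [DecidableEq n]

/-- The action of a reduced element through the matrices. -/
theorem asAlgebraHom_rd_lift (π : G →* Matrix n n (locRing hM)) :
    letI := ModRep.resField hM
    ∀ ρ : Representation (Res M) G (n → Res M),
      (∀ g, ρ g = Matrix.toLin' ((π g).map (Star.resHom hM))) → ∀ a : Star.Loc hM G,
        ρ.asAlgebraHom (Star.rd hM a) = Matrix.toLin'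
          ((MonoidAlgebra.lift (locRing hM) (Matrix n n (locRing hM)) G π a).map (Star.resHom hM)) := by
  letI := ModRep.resField hM
  intro ρ hρ a
  induction a using MonoidAlgebra.induction_linear with
  | zero => simp
  | add a b ha hb => rw [map_add, map_add, map_add, Matrix.map_add _ (map_add _), map_add, ha, hb]
  | single g r =>
    rw [Star.rd, MonoidAlgebra.mapRingHom_single, asAlgebraHom_single, hρ, ← map_smul]
    congr 1
    simp only [MonoidAlgebra.lift_single]
    ext i j
    simp

/-- The trace of an idempotent is the rank of its reduction. -/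
theorem trL_lift_eq_finrank (π : G →* Matrix n n (locRing hM)) {u : Star.Loc hM G} (hu : u * u = u) :
    letI := ModRep.resField hM
    Star.trL hM (fun g => ((Matrix.trace (π g) : locRing hM) : ℂ)) u =
      (Module.finrank (Res M) (LinearMap.range (Matrix.toLin'
        ((MonoidAlgebra.lift (locRing hM) (Matrix n n (locRing hM)) G π u).map (Star.resHom hM)))) : ℂ) := by
  letI := ModRep.resField hM
  haveI := ModRep.isAlgClosed_res hM
  haveI : Fact p.Prime := ⟨hM.1⟩
  let L := MonoidAlgebra.lift (locRing hM) (Matrix n n (locRing hM)) G π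
  have htr : ∀ a : Star.Loc hM G, Star.trL hM (fun g => ((Matrix.trace (π g) : locRing hM) : ℂ)) a =
      ((Matrix.trace (L a) : locRing hM) : ℂ) := by
    intro a
    induction a using MonoidAlgebra.induction_linear with
    | zero => simp [trL_zero]
    | add a b ha hb => rw [trL_add, map_add, Matrix.trace_add, ha, hb, Subring.coe_add]
    | single g r =>
      rw [trL_single, MonoidAlgebra.lift_single, Matrix.trace_smul, smul_eq_mul, Subring.coe_mul]
  have hE : L u * L u = L u := by rw [← map_mul, hu]
  have hproj : IsIdempotentElem (Matrix.toLin' ((L u).map (locRing hM).subtype)) := by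
    show Matrix.toLin' _ * Matrix.toLin' _ = _
    rw [Module.End.mul_eq_comp, ← Matrix.toLin'_mul, ← Matrix.map_mul, hE]
  have htrace : ((Matrix.trace (L u) : locRing hM) : ℂ) =
      Matrix.trace ((L u).map (locRing hM).subtype) :=
    AddMonoidHom.map_trace (locRing hM).subtype.toAddMonoidHom (L u)
  rw [htr, htrace, ← Matrix.trace_toLin'_eq, (LinearMap.IsIdempotentElem.isProj_range _ hproj).trace,
    ← finrank_range_map_eq (locRing hM).subtype Subtype.val_injective (Star.resHom hM) hE]

/-- The rank expansion of an integral matrix representation. -/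
theorem exists_mult_matrix (π : G →* Matrix n n (locRing hM)) :
    ∃ m : SimpR hM G → ℕ, ∀ u : Star.Loc hM G, u * u = u →
      Star.trL hM (fun g => ((Matrix.trace (π g) : locRing hM) : ℂ)) u =
        ((∑ s, m s * rkS hM s u : ℕ) : ℂ) := by
  letI := ModRep.resField hM
  haveI := ModRep.isAlgClosed_res hM
  let ρ : Representation (Res M) G (n → Res M) :=
    { toFun := fun g => Matrix.toLin' ((π g).map (Star.resHom hM))
      map_one' := by rw [map_one, Matrix.map_one _ (map_zero _) (map_one _), Matrix.toLin'_one]; rfl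
      map_mul' := fun a b => by rw [map_mul, Matrix.map_mul, Matrix.toLin'_mul]; rfl }
  obtain ⟨m, hm⟩ := exists_mult_aux ρ
  refine ⟨m, fun u hu => ?_⟩
  rw [trL_lift_eq_finrank π hu, ← asAlgebraHom_rd_lift π ρ (fun g => rfl)]
  exact congrArg Nat.cast (hm _ (by rw [← map_mul, hu]))

end matrix

section monomial

variable (hM) (E : Subgroup G) (lam : E →* ℂˣ)

open scoped Classical in
/-- The extension by zero of a linear character, in the local ring. -/
noncomputable def lamR (x : G) : locRing hM :=
  if h : x ∈ E then ⟨(lam ⟨x, h⟩ : ℂ), memR_of_isIntegral hM (by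
    refine IsIntegral.of_pow (orderOf_pos (⟨x, h⟩ : E)) ?_
    rw [← Units.val_pow_eq_pow_val, ← map_pow, pow_orderOf_eq_one, map_one]
    exact isIntegral_one)⟩
  else 0

open scoped Classical in
/-- The monomial matrices. -/
noncomputable def monMat [Fintype (G ⧸ E)] : G →* Matrix (G ⧸ E) (G ⧸ E) (locRing hM) where
  toFun g := Matrix.of fun i j => lamR hM E lam (i.out⁻¹ * g * j.out)
  map_one' := by
    ext i j
    rw [Matrix.of_apply, mul_one, Matrix.one_apply, lamR]
    by_cases hij : i = j
    · subst hij
      rw [if_pos rfl, dif_pos (by rw [inv_mul_cancel]; exact E.one_mem)]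
      have : (⟨i.out⁻¹ * i.out, by rw [inv_mul_cancel]; exact E.one_mem⟩ : E) = 1 :=
        Subtype.ext (inv_mul_cancel _)
      show (lam _ : ℂ) = 1
      rw [this, map_one]
      rfl
    · rw [if_neg hij, dif_neg fun h => hij (by
        rw [← QuotientGroup.out_eq' i, ← QuotientGroup.out_eq' j, QuotientGroup.eq]
        exact h)]
  map_mul' g h := by
    ext i l
    rw [Matrix.mul_apply, Matrix.of_apply]
    simp only [Matrix.of_apply]
    rw [Finset.sum_eq_single (QuotientGroup.mk (h * l.out) : G ⧸ E)]
    · set j : G ⧸ E := QuotientGroup.mk (h * l.out) with hj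
      have hmem : j.out⁻¹ * h * l.out ∈ E := by
        rw [mul_assoc, ← QuotientGroup.eq, QuotientGroup.out_eq', hj]
      have e : i.out⁻¹ * (g * h) * l.out = i.out⁻¹ * g * j.out * (j.out⁻¹ * h * l.out) := by group
      have hiff : i.out⁻¹ * (g * h) * l.out ∈ E ↔ i.out⁻¹ * g * j.out ∈ E := by
        rw [e]; exact ⟨fun h' => (Subgroup.mul_mem_cancel_right E hmem).1 h',
          fun h' => E.mul_mem h' hmem⟩
      rw [Subring.coe_mul, lamR, lamR, lamR, dif_pos hmem]
      by_cases hi : i.out⁻¹ * g * j.out ∈ E
      · rw [dif_pos hi, dif_pos (hiff.2 hi)]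
        show (lam _ : ℂ) = (lam _ : ℂ) * (lam _ : ℂ)
        rw [← Units.val_mul, ← map_mul]
        congr 2
        exact Subtype.ext e
      · rw [dif_neg hi, dif_neg fun h' => hi (hiff.1 h'), ZeroMemClass.coe_zero, zero_mul]
    · intro j _ hj
      rw [lamR, lamR, dif_neg fun (h' : j.out⁻¹ * h * l.out ∈ E) => hj (by
        rw [← QuotientGroup.out_eq' j, QuotientGroup.eq, ← mul_assoc]
        exact h'), mul_zero]
    · exact fun h' => absurd (Finset.mem_univ _) h'

theorem trace_monMat [Fintype G] [Fintype (G ⧸ E)] (g : G) :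
    ((Matrix.trace (monMat hM E lam g) : locRing hM) : ℂ) =
      Cfsg.indFun E (fun e => (lam e : ℂ)) g := by
  classical
  have hval : ∀ x, ((lamR hM E lam x : locRing hM) : ℂ) =
      extendByZero E (fun e => (lam e : ℂ)) x := by
    intro x
    rw [lamR]
    split_ifs with h
    · rw [extendByZero]
      exact ((Subtype.val_injective (p := (· ∈ E))).extend_apply (fun e : E => (lam e : ℂ)) 0 ⟨x, h⟩).symm
    · rw [ZeroMemClass.coe_zero, extendByZero, Function.extend_apply']
      · rfl
      · rintro ⟨a, rfl⟩
        exact h a.2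
  rw [Matrix.trace, AddSubmonoidClass.coe_finsetSum, indFun]
  simp only [Matrix.diag_apply, monMat, MonoidHom.coe_mk, OneHom.coe_mk, Matrix.of_apply, hval]
  have hconst : ∀ x : G, extendByZero E (fun e => (lam e : ℂ)) (x⁻¹ * g * x) =
      extendByZero E (fun e => (lam e : ℂ))
        ((QuotientGroup.mk x : G ⧸ E).out⁻¹ * g * (QuotientGroup.mk x : G ⧸ E).out) := by
    intro x
    obtain ⟨⟨a, ha⟩, he⟩ := QuotientGroup.mk_out_eq_mul E x
    rw [he]
    show _ = extendByZero E _ ((x * a)⁻¹ * g * (x * a))
    rw [← hval, ← hval]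
    congr 1
    rw [show (x * a)⁻¹ * g * (x * a) = a⁻¹ * (x⁻¹ * g * x) * a by group, lamR, lamR]
    by_cases h : x⁻¹ * g * x ∈ E
    · rw [dif_pos h, dif_pos (E.mul_mem (E.mul_mem (E.inv_mem ha) h) ha)]
      refine Subtype.ext (congrArg Units.val ?_)
      rw [show (⟨a⁻¹ * (x⁻¹ * g * x) * a, E.mul_mem (E.mul_mem (E.inv_mem ha) h) ha⟩ : E) =
        ⟨a, ha⟩⁻¹ * ⟨x⁻¹ * g * x, h⟩ * ⟨a, ha⟩ from rfl, map_mul, map_mul, map_inv, mul_comm,
        mul_inv_cancel_left]
    · rw [dif_neg h, dif_neg fun h' => h ?_]
      simpa [mul_assoc] using E.mul_mem (E.mul_mem ha h') (E.inv_mem ha)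
  rw [Finset.sum_congr rfl fun x _ => hconst x]
  let F : (G ⧸ E) × E ≃ G :=
    { toFun := fun q => q.1.out * q.2
      invFun := fun x => ((QuotientGroup.mk x : G ⧸ E),
        ⟨(QuotientGroup.mk x : G ⧸ E).out⁻¹ * x, by
          rw [← QuotientGroup.eq, QuotientGroup.out_eq']⟩)
      left_inv := fun q => by
        have h : (QuotientGroup.mk (q.1.out * q.2) : G ⧸ E) = q.1 := by
          rw [QuotientGroup.mk_mul_of_mem _ q.2.2, QuotientGroup.out_eq']
        refine Prod.ext h (Subtype.ext ?_)
        show (QuotientGroup.mk (q.1.out * q.2) : G ⧸ E).out⁻¹ * (q.1.out * q.2) = q.2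
        rw [h, inv_mul_cancel_left]
      right_inv := fun x => mul_inv_cancel_left _ _ }
  rw [← Equiv.sum_comp F]
  have hfst : ∀ q : (G ⧸ E) × E, (QuotientGroup.mk (F q) : G ⧸ E) = q.1 := fun q =>
    (QuotientGroup.mk_mul_of_mem _ q.2.2).trans (QuotientGroup.out_eq' _)
  simp only [hfst]
  rw [Fintype.sum_prod_type]
  simp only [Finset.sum_const, Finset.card_univ, nsmul_eq_mul, ← Finset.mul_sum,
    Nat.card_eq_fintype_card]
  rw [← mul_assoc, inv_mul_cancel₀ (Nat.cast_ne_zero.2 Fintype.card_ne_zero), one_mul]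

end monomial

/-- The rank expansion of a generalized character. -/
theorem exists_mult_gen {χ : G → ℂ} (hχ : IsGeneralizedCharacter G χ) :
    ∃ m : SimpR hM G → ℤ, ∀ u : Star.Loc hM G, u * u = u →
      Star.trL hM χ u = ∑ s, (m s : ℂ) * (rkS hM s u : ℂ) := by
  classical
  have := Fintype.ofFinite G
  obtain ⟨L, -, rfl⟩ := Char.brauer_induction hχ
  clear hχ
  induction L with
  | nil => exact ⟨0, fun u _ => by
      simp [Star.trL, Star.tr_def]⟩
  | cons t L ih =>
    obtain ⟨m, hm⟩ := ih
    have := Fintype.ofFinite (G ⧸ t.1)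
    obtain ⟨n, hn⟩ := exists_mult_matrix (monMat hM t.1 t.2.1)
    simp only [trace_monMat] at hn
    refine ⟨fun s => t.2.2 * n s + m s, fun u hu => ?_⟩
    have e : Star.trL hM ((t :: L).map fun t => (t.2.2 : ℂ) • Cfsg.indFun t.1
        (fun e => (t.2.1 e : ℂ))).sum u = (t.2.2 : ℂ) * Star.trL hM (fun g =>
          Cfsg.indFun t.1 (fun e => (t.2.1 e : ℂ)) g) u + Star.trL hM (L.map fun t =>
            (t.2.2 : ℂ) • Cfsg.indFun t.1 (fun e => (t.2.1 e : ℂ))).sum u := by
      rw [List.map_cons, List.sum_cons]
      simp only [Star.trL, Star.tr_def, Pi.add_apply, Pi.smul_apply, smul_eq_mul, mul_add,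
        Finset.sum_add_distrib, Finset.mul_sum]
      congr 1
      exact Finset.sum_congr rfl fun g _ => by ring
    rw [e, hn u hu, hm u hu, Nat.cast_sum, Finset.mul_sum, ← Finset.sum_add_distrib]
    exact Finset.sum_congr rfl fun s _ => by push_cast; ring

end Cfsg.Agent.BrauerChar
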