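import Cfsg.Agent.Lib.ModRep.RegBasis

/-!
# Ranks of idempotents on modules and composition multiplicities

`k` is an algebraically closed field.
* `rk ρ a`: the rank of the image of `a : k[G]` on a representation;
* `rk_eq_of_intertwine`: it only depends on the isomorphism class;
* `Simp k G` with `sRep`: representatives of the simple representations;
* `exists_mult`: the rank of every idempotent on a representation is a fixed natural combination
  of its ranks on the simple representations, a given simple quotient occurring at least once.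
-/

set_option autoImplicit false
set_option linter.unusedSectionVars false

namespace Cfsg.Agent.BrauerChar

open Module Representation

universe u v

variable {k : Type u} [Field k] {G : Type v} [Group G]

/-- The rank of the image of an element of the group algebra on a representation. -/
noncomputable def rk {V : Type*} [AddCommGroup V] [Module k V] (ρ : Representation k G V)
    (a : MonoidAlgebra k G) : ℕ :=
  finrank k (LinearMap.range (ρ.asAlgebraHom a))

theorem asAlgebraHom_intertwine {V W : Type*} [AddCommGroup V] [Module k V] [AddCommGroup W]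
    [Module k W] (ρ : Representation k G V) (σ : Representation k G W) (f : V →ₗ[k] W)
    (h : ∀ g v, f (ρ g v) = σ g (f v)) (a : MonoidAlgebra k G) (v : V) :
    f (ρ.asAlgebraHom a v) = σ.asAlgebraHom a (f v) := by
  induction a using MonoidAlgebra.induction_linear with
  | zero => simp
  | add a b ha hb => simp [map_add, ha, hb]
  | single g r => simp [asAlgebraHom_single, h]

theorem rk_eq_of_intertwine {V W : Type*} [AddCommGroup V] [Module k V] [AddCommGroup W]
    [Module k W] (ρ : Representation k G V) (σ : Representation k G W) (e : V ≃ₗ[k] W)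
    (h : ∀ g v, e (ρ g v) = σ g (e v)) (a : MonoidAlgebra k G) : rk ρ a = rk σ a := by
  have he : (LinearMap.range (ρ.asAlgebraHom a)).map e.toLinearMap =
      LinearMap.range (σ.asAlgebraHom a) := by
    ext w
    constructor
    · rintro ⟨_, ⟨v, rfl⟩, rfl⟩
      exact ⟨e v, (asAlgebraHom_intertwine ρ σ e.toLinearMap h a v).symm⟩
    · rintro ⟨v, rfl⟩
      refine ⟨ρ.asAlgebraHom a (e.symm v), ⟨_, rfl⟩, ?_⟩
      rw [asAlgebraHom_intertwine ρ σ e.toLinearMap h a]
      simp
  rw [rk, rk, ← he]
  exact ((LinearEquiv.submoduleMap e _).finrank_eq)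

theorem trace_idem {V : Type*} [AddCommGroup V] [Module k V] [FiniteDimensional k V]
    (ρ : Representation k G V) {a : MonoidAlgebra k G} (ha : a * a = a) :
    LinearMap.trace k V (ρ.asAlgebraHom a) = (rk ρ a : k) := by
  have h : IsIdempotentElem (ρ.asAlgebraHom a) := by rw [IsIdempotentElem, ← map_mul, ha]
  exact LinearMap.IsProj.trace ((LinearMap.isProj_range_iff_isIdempotentElem _).2 h)

/-- The representatives of the simple representations. -/
def Simp (k : Type u) [Field k] (G : Type v) [Group G] : Type _ := ↥(ModRep.simpleTraces k G)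

instance [IsAlgClosed k] [Finite G] : Finite (Simp k G) :=
  (ModRep.finite_simpleTraces (k := k) (G := G)).to_subtype

/-- The dimension. -/
noncomputable def sdim (s : Simp k G) : ℕ := s.2.choose

/-- The representation. -/
noncomputable def sRep (s : Simp k G) : Representation k G (Fin (sdim s) → k) :=
  s.2.choose_spec.choose

instance sRep_irreducible (s : Simp k G) : (sRep s).IsIrreducible := s.2.choose_spec.choose_spec.1

theorem trace_sRep (s : Simp k G) (g : G) :
    LinearMap.trace k _ (sRep s g) = (Subtype.val s : G → k) g :=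
  (s.2.choose_spec.choose_spec.2 g).symm

theorem sdim_pos (s : Simp k G) : 0 < sdim s := by
  by_contra h
  have h0 : sdim s = 0 := by omega
  have : Subsingleton (Fin (sdim s) → k) := by
    haveI : IsEmpty (Fin (sdim s)) := by rw [h0]; infer_instance
    infer_instance
  obtain ⟨⟨A, B, hAB⟩⟩ := (sRep_irreducible s).toNontrivial
  exact hAB (Subrepresentation.toSubmodule_injective (Subsingleton.elim _ _))

theorem rk_sRep_one (s : Simp k G) : rk (sRep s) 1 = sdim s := by
  rw [rk, map_one, show (1 : Module.End k (Fin (sdim s) → k)) = LinearMap.id from rfl,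
    LinearMap.range_id, finrank_top, Module.finrank_fintype_fun_eq_card, Fintype.card_fin]

theorem linearIndependent_sRep_trace [IsAlgClosed k] [Finite G] :
    LinearIndependent k fun (s : Simp k G) (g : G) => LinearMap.trace k _ (sRep s g) := by
  have h := (ModRep.linearIndepOn_simpleTraces (k := k) (G := G)).linearIndependent
  have e : (fun (s : Simp k G) (g : G) => LinearMap.trace k _ (sRep s g)) =
      fun s : Simp k G => (Subtype.val s : G → k) := funext fun s => funext (trace_sRep s)
  rw [e]
  exact h

/-- Every simple representation is one of the representatives. -/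
theorem exists_simp [IsAlgClosed k] [Finite G] {V : Type*} [AddCommGroup V] [Module k V]
    [FiniteDimensional k V] (ρ : Representation k G V) (hρ : ρ.IsIrreducible) :
    ∃ s : Simp k G, ∀ a, rk (sRep s) a = rk ρ a := by
  classical
  obtain ⟨n, σ, hσ, htr⟩ := ModRep.mem_simpleTraces ρ hρ
  let e := (Module.finBasis k V).equivFun
  let τ : Representation k G (Fin (finrank k V) → k) := (e.conjRingEquiv.toMonoidHom).comp ρ
  have hτ : ∀ g v, e (ρ g v) = τ g (e v) := fun g v => by
    show _ = e.conj (ρ g) (e v)
    rw [LinearEquiv.conj_apply_apply, e.symm_apply_apply]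
  have hτirr : τ.IsIrreducible := by
    refine (OrderIso.isSimpleOrder_iff (β := Subrepresentation τ) ?_).1 hρ
    exact
    { toFun := fun W => ⟨W.toSubmodule.map e.toLinearMap, fun g _ hv => by
        obtain ⟨v, hv, rfl⟩ := hv
        exact ⟨ρ g v, W.apply_mem_toSubmodule g hv, hτ g v⟩⟩
      invFun := fun W => ⟨W.toSubmodule.comap e.toLinearMap, fun g v hv => by
        show e (ρ g v) ∈ W.toSubmodule
        rw [hτ]
        exact W.apply_mem_toSubmodule g hv⟩
      left_inv := fun W => Subrepresentation.toSubmodule_injective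
        (Submodule.comap_map_eq_of_injective e.injective _)
      right_inv := fun W => Subrepresentation.toSubmodule_injective
        (Submodule.map_comap_eq_of_surjective e.surjective _)
      map_rel_iff' := fun {W W'} => Submodule.map_le_map_iff_of_injective e.injective _ _ }
  let s : Simp k G := ⟨fun g => LinearMap.trace k V (ρ g), ModRep.mem_simpleTraces ρ hρ⟩
  refine ⟨s, ?_⟩
  have htrτ : ∀ g, LinearMap.trace k _ (τ g) = LinearMap.trace k V (ρ g) := fun g =>
    LinearMap.trace_conj' (ρ g) e
  -- otherwise two non-isomorphic simple representations would have the same trace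
  have hiso : Nonempty ((sRep s).Equiv τ) := by
    by_contra hno
    let d : Bool → ℕ := fun b => bif b then sdim s else finrank k V
    let φ : ∀ b : Bool, Representation k G (Fin (d b) → k) := fun b => by
      cases b
      exacts [τ, sRep s]
    have hirr : ∀ b, (φ b).IsIrreducible := fun b => by
      cases b
      exacts [hτirr, sRep_irreducible s]
    have hne : ∀ i j, i ≠ j → IsEmpty ((φ i).Equiv (φ j)) := fun i j hij => by
      cases i <;> cases j
      · exact absurd rfl hij
      · exact ⟨fun q => hno ⟨q.symm⟩⟩
      · exact ⟨fun q => hno ⟨q⟩⟩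
      · exact absurd rfl hij
    have hli := ModRep.linearIndependent_trace (fun b => Fin (d b) → k) φ hirr hne
    have heq : (fun g => LinearMap.trace k _ (φ true g)) = fun g => LinearMap.trace k _ (φ false g) := by
      funext g
      show LinearMap.trace k _ (sRep s g) = LinearMap.trace k _ (τ g)
      rw [trace_sRep, htrτ]
    exact absurd (hli.injective heq) (by simp)
  obtain ⟨q⟩ := hiso
  intro a
  rw [rk_eq_of_intertwine (sRep s) τ q.toLinearEquiv (fun g v => ?_) a,
    rk_eq_of_intertwine ρ τ e hτ a]
  exact LinearMap.congr_fun (q.toIntertwiningMap.isIntertwining' g) v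

/-- The rank of an idempotent is additive. -/
theorem rk_add {V : Type*} [AddCommGroup V] [Module k V] [FiniteDimensional k V]
    (ρ : Representation k G V) (W : Submodule k V) (ρW : Representation k G W)
    (ρQ : Representation k G (V ⧸ W)) (hW : ∀ g (w : W), W.subtype (ρW g w) = ρ g (W.subtype w))
    (hQ : ∀ g v, W.mkQ (ρ g v) = ρQ g (W.mkQ v)) {a : MonoidAlgebra k G} (ha : a * a = a) :
    rk ρ a = rk ρW a + rk ρQ a := by
  set f := ρ.asAlgebraHom a with hf
  have hfW : ∀ w : W, W.subtype (ρW.asAlgebraHom a w) = f (W.subtype w) := fun w =>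
    asAlgebraHom_intertwine ρW ρ W.subtype hW a w
  have hfQ : ∀ v, W.mkQ (f v) = ρQ.asAlgebraHom a (W.mkQ v) := fun v =>
    asAlgebraHom_intertwine ρ ρQ W.mkQ hQ a v
  have hff : ∀ v, f (f v) = f v := fun v => by
    rw [← Module.End.mul_apply, hf, ← map_mul, ha]
  let π : LinearMap.range f →ₗ[k] V ⧸ W := W.mkQ.comp (LinearMap.range f).subtype
  have hπ : LinearMap.range π = LinearMap.range (ρQ.asAlgebraHom a) := by
    ext x
    constructor
    · rintro ⟨⟨_, v, rfl⟩, rfl⟩
      exact ⟨W.mkQ v, (hfQ v).symm⟩
    · rintro ⟨q, rfl⟩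
      obtain ⟨v, rfl⟩ := W.mkQ_surjective q
      exact ⟨⟨f v, v, rfl⟩, hfQ v⟩
  have hker : (LinearMap.ker π).map (LinearMap.range f).subtype =
      (LinearMap.range (ρW.asAlgebraHom a)).map W.subtype := by
    ext x
    constructor
    · rintro ⟨⟨y, v, rfl⟩, hy, rfl⟩
      have hy' : f v ∈ W := (Submodule.Quotient.mk_eq_zero W).1 hy
      exact ⟨_, ⟨⟨f v, hy'⟩, rfl⟩, (hfW ⟨f v, hy'⟩).trans (hff v)⟩
    · rintro ⟨_, ⟨w, rfl⟩, rfl⟩
      refine ⟨⟨W.subtype (ρW.asAlgebraHom a w), W.subtype w, (hfW w).symm⟩, ?_, rfl⟩
      exact (Submodule.Quotient.mk_eq_zero W).2 (Subtype.coe_prop _)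
  have h := π.finrank_range_add_finrank_ker
  rw [hπ, ← Submodule.finrank_map_subtype_eq (LinearMap.range f) (LinearMap.ker π), hker,
    Submodule.finrank_map_subtype_eq] at h
  rw [rk, rk, rk, ← hf, ← h, add_comm]

/-- Composition multiplicities. -/
theorem exists_mult_aux [IsAlgClosed k] [Finite G] {V : Type*} [AddCommGroup V] [Module k V]
    [FiniteDimensional k V] (ρ : Representation k G V) [Fintype (Simp k G)] :
    ∃ n : Simp k G → ℕ, ∀ a : MonoidAlgebra k G, a * a = a → rk ρ a = ∑ s, n s * rk (sRep s) a := by
  classical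
  induction hn : finrank k V using Nat.strong_induction_on generalizing V with
  | _ n ih =>
    subst hn
    by_cases hW : ∃ W : Submodule k V, W ≠ ⊥ ∧ W ≠ ⊤ ∧ ∀ g, W ≤ W.comap (ρ g)
    · obtain ⟨W, hb, ht, hρ⟩ := hW
      let ρW : Representation k G W :=
        { toFun := fun g => (ρ g).restrict fun x hx => hρ g hx
          map_one' := LinearMap.ext fun x => Subtype.ext (by simp)
          map_mul' := fun a b => LinearMap.ext fun x => Subtype.ext (by simp) }
      let ρQ : Representation k G (V ⧸ W) :=
        { toFun := fun g => W.mapQ W (ρ g) (hρ g)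
          map_one' := Submodule.linearMap_qext _ (LinearMap.ext fun x => by simp)
          map_mul' := fun a b => Submodule.linearMap_qext _ (LinearMap.ext fun x => by simp) }
      obtain ⟨n₁, h1⟩ := ih _ (Submodule.finrank_lt ht) ρW rfl
      obtain ⟨n₂, h2⟩ := ih _ (by
        have := Submodule.finrank_quotient_add_finrank W
        have : finrank k W ≠ 0 := fun h0 => hb (Submodule.finrank_eq_zero.mp h0)
        omega) ρQ rfl
      refine ⟨n₁ + n₂, fun a ha => ?_⟩
      rw [rk_add ρ W ρW ρQ (fun g w => rfl) (fun g v => rfl) ha, h1 a ha, h2 a ha,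
        ← Finset.sum_add_distrib]
      exact Finset.sum_congr rfl fun s _ => by rw [Pi.add_apply, add_mul]
    push Not at hW
    by_cases hz : finrank k V = 0
    · refine ⟨0, fun a _ => ?_⟩
      have : rk ρ a ≤ 0 := hz ▸ Submodule.finrank_le _
      simpa using Nat.le_zero.1 this
    have : Nontrivial V := Module.nontrivial_of_finrank_pos (R := k) (Nat.pos_of_ne_zero hz)
    have hirr : ρ.IsIrreducible := by
      refine @IsSimpleOrder.mk _ _ _ ⟨⟨⊥, ⊤, fun he =>
        bot_ne_top (congrArg Subrepresentation.toSubmodule he)⟩⟩ fun W => ?_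
      by_contra hcon
      push Not at hcon
      obtain ⟨g, hg⟩ := hW W.toSubmodule
        (fun h => hcon.1 (Subrepresentation.toSubmodule_injective h))
        (fun h => hcon.2 (Subrepresentation.toSubmodule_injective h))
      exact hg fun x hx => W.apply_mem_toSubmodule g hx
    obtain ⟨s, hs⟩ := exists_simp ρ hirr
    refine ⟨fun t => if t = s then 1 else 0, fun a _ => ?_⟩
    simp [hs a]

/-- Composition multiplicities, with a given simple quotient. -/
theorem exists_mult_quot [IsAlgClosed k] [Finite G] {V : Type*} [AddCommGroup V] [Module k V]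
    [FiniteDimensional k V] (ρ : Representation k G V) [Fintype (Simp k G)] (s : Simp k G)
    (f : V →ₗ[k] (Fin (sdim s) → k)) (hf : Function.Surjective f)
    (hfg : ∀ g v, f (ρ g v) = sRep s g (f v)) :
    ∃ n : Simp k G → ℕ, 0 < n s ∧
      ∀ a : MonoidAlgebra k G, a * a = a → rk ρ a = ∑ t, n t * rk (sRep t) a := by
  classical
  let W := LinearMap.ker f
  have hρ : ∀ g, W ≤ W.comap (ρ g) := fun g x hx => by
    have hx' : f x = 0 := hx
    show f (ρ g x) = 0
    rw [hfg, hx', map_zero]
  let ρW : Representation k G W :=
    { toFun := fun g => (ρ g).restrict fun x hx => hρ g hx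
      map_one' := LinearMap.ext fun x => Subtype.ext (by simp)
      map_mul' := fun a b => LinearMap.ext fun x => Subtype.ext (by simp) }
  let ρQ : Representation k G (V ⧸ W) :=
    { toFun := fun g => W.mapQ W (ρ g) (hρ g)
      map_one' := Submodule.linearMap_qext _ (LinearMap.ext fun x => by simp)
      map_mul' := fun a b => Submodule.linearMap_qext _ (LinearMap.ext fun x => by simp) }
  obtain ⟨n, hn⟩ := exists_mult_aux ρW
  refine ⟨fun t => n t + if t = s then 1 else 0, by simp, fun a ha => ?_⟩
  have hQ : rk ρQ a = rk (sRep s) a :=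
    rk_eq_of_intertwine ρQ (sRep s) (f.quotKerEquivOfSurjective hf) (fun g q => by
      obtain ⟨v, rfl⟩ := W.mkQ_surjective q
      exact hfg g v) a
  rw [rk_add ρ W ρW ρQ (fun g w => rfl) (fun g v => rfl) ha, hn a ha, hQ]
  simp [add_mul, Finset.sum_add_distrib]

end Cfsg.Agent.BrauerChar
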