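import Cfsg.Agent.Lib.Blocks.BrauerChar.Block
import Cfsg.Agent.Lib.Blocks.KleinDefect
import Cfsg.Agent.Lib.BrauerPairs.MinimalDim
import Cfsg.Agent.Lib.BrauerPairs.PPowerIndex
import Cfsg.Agent.Lib.Solvable.NilpotentHall
import Cfsg.Agent.Lib.Char.Virtual
import Cfsg.Agent.Lib.Char.Brauer

/-!
# Brauer characters are restrictions of generalized characters

* `isCharacter_brChar_of_not_dvd`: in a group of order prime to `p` they are the irreducible
  characters;
* `exists_virtual`: in general they are restrictions of generalized characters;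
* `exists_brChar_eq`: the Brauer characters of a block are integral combinations of its members.
-/

set_option autoImplicit false
set_option linter.unusedSectionVars false
set_option linter.style.haveILetI false
set_option maxHeartbeats 1000000
set_option synthInstance.maxHeartbeats 200000

namespace Cfsg.Agent.BrauerChar

open Cfsg Cfsg.Agent.Blocks Cfsg.Agent.BrauerPairs Cfsg.Agent.EqualDegree Representation

variable {G : Type*} [Group G] [Finite G] {p : ℕ} {M : Ideal AlgInt} {hM : IsPModular p M}
  [Fact p.Prime]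

/-- Coefficient uniqueness. -/
theorem coeff_unique {a b : SimpR hM G → ℂ}
    (h : ∀ y, ¬ p ∣ orderOf y → ∑ s, a s * brChar hM s y = ∑ s, b s * brChar hM s y) : a = b := by
  have hli := Fintype.linearIndependent_iff.1 (linearIndependent_brChar (hM := hM) (G := G))
  refine funext fun s => sub_eq_zero.1 (hli (fun s => a s - b s) (funext fun y => ?_) s)
  rw [Finset.sum_apply, Pi.zero_apply]
  simp only [Pi.smul_apply, smul_eq_mul, sub_mul, Finset.sum_sub_distrib]
  by_cases hy : p ∣ orderOf y
  · simp [brChar_of_singular _ hy]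
  · rw [h y hy, sub_self]

theorem exists_inB (s : SimpR hM G) :
    ∃ B : Set (IrrCharacter G), IsPBlock M B ∧ InB hM B s := by
  classical
  letI := ModRep.resField hM
  have := Fintype.ofFinite (IrrCharacter G)
  by_contra h
  push Not at h
  have h1 := congrArg (sRep s).asAlgebraHom (sum_blk (G := G) hM)
  rw [map_sum, map_one, Finset.sum_eq_zero] at h1
  · haveI : Nontrivial (Module.End (Res M) (Fin (sdim s) → Res M)) := by
      haveI : Nonempty (Fin (sdim s)) := ⟨⟨0, sdim_pos s⟩⟩
      infer_instance
    exact zero_ne_one h1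
  · intro B hB
    obtain ⟨χ, -, rfl⟩ := Finset.mem_image.1 hB
    exact (inB_or ⟨χ, rfl⟩ s).resolve_left (h _ ⟨χ, rfl⟩)

section pprime

/-- In a group of order prime to `p` the Brauer characters are characters. -/
theorem isCharacter_brChar_of_not_dvd (hG : ¬ p ∣ Nat.card G) (s : SimpR hM G) :
    IsCharacter G (brChar hM s) := by
  classical
  letI := ModRep.resField hM
  haveI := ModRep.isAlgClosed_res hM
  haveI := res_charP hM
  have := Fintype.ofFinite G
  have := Fintype.ofFinite (IrrCharacter G)
  have hreg : ∀ y : G, ¬ p ∣ orderOf y := fun y h => hG (h.trans (orderOf_dvd_natCard y))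
  have hsing : ∀ χ : IrrCharacter G, blockOf M (χ : G → ℂ) = {χ} := fun χ =>
    (singleton_iff_not_dvd hM χ).1 fun h => hG (h.trans
      (Nat.div_dvd_of_dvd (charDegree_dvd_card χ)))
  have hblock : ∀ χ : IrrCharacter G, IsPBlock M ({χ} : Set (IrrCharacter G)) := fun χ =>
    ⟨χ, (hsing χ).symm⟩
  -- one simple representation for each character
  have hex : ∀ χ : IrrCharacter G, ∃ t : SimpR hM G, InB hM {χ} t := fun χ => by
    have h := blockRank_le_card (hM := hM) (hblock χ)
    have h0 := KleinDefect.blockRank_pos hM (hblock χ)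
    obtain ⟨⟨⟨t, ht⟩⟩, -⟩ := Nat.card_pos_iff.1 (h0.trans_le h)
    exact ⟨t, ht⟩
  choose F hF using hex
  have hFinj : Function.Injective F := fun χ ψ h =>
    Set.singleton_eq_singleton_iff.1 (inB_disjoint (hblock χ) (hblock ψ) (hF χ) (h ▸ hF ψ))
  have hcard : Fintype.card (IrrCharacter G) = Fintype.card (SimpR hM G) := by
    obtain ⟨b, -⟩ := ModRep.exists_basis (k := Res M) (G := G) (p := p)
    have := Fintype.ofFinite (ModRep.RegClass p G)
    have : Fintype (ModRep.simpleTraces (Res M) G) :=
      (ModRep.finite_simpleTraces (k := Res M) (G := G)).fintype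
    have h1 := Module.finrank_eq_card_basis b
    rw [Module.finrank_fintype_fun_eq_card] at h1
    have h2 : Nat.card (ModRep.RegClass p G) = Nat.card (ConjClasses G) :=
      Nat.card_congr (Equiv.subtypeUnivEquiv fun c => hreg _)
    have h3 : Nat.card (SimpR hM G) = Fintype.card (ModRep.simpleTraces (Res M) G) :=
      Nat.card_eq_fintype_card (α := ModRep.simpleTraces (Res M) G)
    rw [← Nat.card_eq_fintype_card, ← Nat.card_eq_fintype_card, Char.card_irr_eq_card_conjClasses,
      ← h2, h3, ← h1, Nat.card_eq_fintype_card]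
  have hFbij : Function.Bijective F := (Fintype.bijective_iff_injective_and_card F).2 ⟨hFinj, hcard⟩
  obtain ⟨χ, rfl⟩ := hFbij.2 s
  set s := F χ
  have huniq : ∀ t : SimpR hM G, InB hM {χ} t → t = s := fun t ht => by
    obtain ⟨ψ, rfl⟩ := hFbij.2 t
    exact congrArg F (Set.singleton_eq_singleton_iff.1 (inB_disjoint (hblock χ) (hblock ψ) ht (hF ψ))).symm
  obtain ⟨d, hd0, hdu, hd⟩ := exists_decomp (hM := hM) (hblock χ) (Set.mem_singleton χ)
  have hval : ∀ y, (χ : G → ℂ) y = (d s : ℂ) * brChar hM s y := fun y => by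
    rw [hd y (hreg y), Finset.sum_eq_single s]
    · intro t _ hts
      rw [hd0 t fun ht => hts (huniq t ht), Int.cast_zero, zero_mul]
    · exact fun h => absurd (Finset.mem_univ _) h
  have hdeg : (charDegree (χ : G → ℂ) : ℤ) = d s * (sdim s : ℕ) := by
    have h := hval 1
    rw [brChar_one, ← charDegree_cast] at h
    exact_mod_cast h
  -- the block algebra embeds into the endomorphisms
  obtain ⟨n, -, hn⟩ := exists_mult_regular (hM := hM) s
  have htr : ∀ g : G, (if g = 1 then (Nat.card G : Res M) else 0) =
      ∑ t, (n t : Res M) * LinearMap.trace (Res M) _ (sRep t g) := by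
    intro g
    have h := apply_of_expansion _ (fun t => (n t : ℂ))
      (fun u hu => by rw [hn u hu]; push_cast; rfl) (hreg g)
    have hind : Cfsg.indFun (⊥ : Subgroup G) (fun _ => (1 : ℂ)) g =
        if g = 1 then (Nat.card G : ℂ) else 0 := by
      rw [indFun, Subgroup.card_bot, Nat.cast_one, inv_one, one_mul]
      by_cases hg : g = 1
      · subst hg
        have e : ∀ x : G, extendByZero (⊥ : Subgroup G) (fun _ => (1 : ℂ)) (x⁻¹ * 1 * x) = 1 := by
          intro x
          rw [mul_one, inv_mul_cancel, extendByZero]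
          exact Subtype.val_injective.extend_apply _ _ (1 : (⊥ : Subgroup G))
        rw [Finset.sum_congr rfl fun x _ => e x]
        simp [Nat.card_eq_fintype_card]
      · rw [if_neg hg]
        refine Finset.sum_eq_zero fun x _ => ?_
        rw [extendByZero, Function.extend_apply']
        · rfl
        · rintro ⟨⟨a, ha⟩, hax⟩
          refine hg ?_
          have h2 : x⁻¹ * g * x = 1 := hax.symm.trans (Subgroup.mem_bot.1 ha)
          calc g = x * (x⁻¹ * g * x) * x⁻¹ := by group
            _ = 1 := by rw [h2, mul_one, mul_inv_cancel]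
    rw [hind] at h
    have h' := congrArg (res M) h
    rw [apply_ite (res M), res_natCast hM, res_zero hM,
      res_sum hM _ fun t _ => memR_mul hM (memR_natCast hM _) (memR_brChar t g)] at h'
    rw [h']
    exact Finset.sum_congr rfl fun t _ => by
      rw [res_mul hM (memR_natCast hM _) (memR_brChar t g), res_natCast hM, res_brChar t (hreg g)]
  have hker : ∀ w : MonoidAlgebra (Res M) G, blk M {χ} * w = w → (sRep s).asAlgebraHom w = 0 →
      w = 0 := by
    intro w hw h0
    have hall : ∀ t : SimpR hM G, (sRep t).asAlgebraHom w = 0 := by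
      intro t
      rcases inB_or (hblock χ) t with ht | ht
      · rw [huniq t ht]; exact h0
      · rw [← hw, map_mul, ht, zero_mul]
    have hlin : ∀ a : MonoidAlgebra (Res M) G, (Nat.card G : Res M) * a.coeff 1 =
        ∑ t, (n t : Res M) * LinearMap.trace (Res M) _ ((sRep t).asAlgebraHom a) := by
      intro a
      induction a using MonoidAlgebra.induction_linear with
      | zero => simp
      | add a b ha hb =>
        simp only [MonoidAlgebra.coeff_add, Finsupp.add_apply, mul_add, map_add,
          Finset.sum_add_distrib, ha, hb]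
      | single g r =>
        simp only [asAlgebraHom_single, map_smul, smul_eq_mul, mul_left_comm _ r, ← Finset.mul_sum,
          ← htr g, MonoidAlgebra.coeff_single, Finsupp.single_apply]
        split_ifs <;> ring
    ext g
    have h := hlin (MonoidAlgebra.single g⁻¹ 1 * w)
    rw [Finset.sum_eq_zero fun t _ => by rw [map_mul, hall t, mul_zero, map_zero, mul_zero],
      mul_eq_zero] at h
    have hG0 : (Nat.card G : Res M) ≠ 0 := fun h0 => hG ((CharP.cast_eq_zero_iff (Res M) p _).1 h0)
    have := h.resolve_left hG0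
    rw [MonoidAlgebra.coeff_single_mul_apply, inv_inv, mul_one, one_mul] at this
    simpa using this
  have hle : charDegree (χ : G → ℂ) ^ 2 ≤ sdim s * sdim s := by
    have h1 := finrank_translation_eq (G := G) hM (hblock χ)
    rw [finsum_mem_singleton, ← Nat.cast_pow, Nat.cast_inj] at h1
    rw [← h1]
    set T := Matrix.toLin' (Matrix.of fun x y : G => (blk M {χ}).coeff (x * y⁻¹)) with hT
    let el : (G → Res M) →ₗ[Res M] MonoidAlgebra (Res M) G :=
      (MonoidAlgebra.coeffLinearEquiv (Res M)).symm.toLinearMap.comp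
        (Finsupp.linearEquivFunOnFinite (Res M) (Res M) G).symm.toLinearMap
    have hel : ∀ v x, (el v).coeff x = v x := fun v x => by simp [el]
    have hTel : ∀ v, el (T v) = blk M {χ} * el v := fun v => by
      ext x
      rw [hel, hT, Matrix.toLin'_apply, BrauerPairs.coeff_mul_eq_sum, Matrix.mulVec, dotProduct]
      refine Fintype.sum_equiv ((Equiv.inv G).trans (Equiv.mulLeft x)) _ _ fun y => ?_
      simp [hel, mul_assoc]
    let Θ : LinearMap.range T →ₗ[Res M] Module.End (Res M) (Fin (sdim s) → Res M) :=
      ((sRep s).asAlgebraHom.toLinearMap.comp el).comp (LinearMap.range T).subtype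
    have hΘ : Function.Injective Θ := by
      rw [← LinearMap.ker_eq_bot, LinearMap.ker_eq_bot']
      rintro ⟨_, v, rfl⟩ h0
      have h2 : el (T v) = 0 := hker _ (by rw [hTel, ← mul_assoc, blk_mul_self hM (hblock χ)]) h0
      refine Subtype.ext (funext fun x => ?_)
      have h3 := congrArg (fun a : MonoidAlgebra (Res M) G => a.coeff x) h2
      simpa [hel] using h3
    refine (LinearMap.finrank_le_finrank_of_injective hΘ).trans (le_of_eq ?_)
    rw [Module.finrank_linearMap, Module.finrank_fintype_fun_eq_card, Fintype.card_fin]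
  have hd1 : d s = 1 := by
    have hm := sdim_pos s
    have hpos := charDegree_pos χ
    have h2 : charDegree (χ : G → ℂ) ≤ sdim s := Nat.pow_le_pow_iff_left two_ne_zero |>.1
      (hle.trans (le_of_eq (pow_two _).symm))
    nlinarith [hdeg, (by exact_mod_cast h2 : (charDegree (χ : G → ℂ) : ℤ) ≤ (sdim s : ℕ)),
      (by exact_mod_cast hpos : (0 : ℤ) < charDegree (χ : G → ℂ))]
  have : brChar hM s = (χ : G → ℂ) := funext fun y => by rw [hval y, hd1, Int.cast_one, one_mul]
  rw [this]
  exact Char.IsIrrCharacter.isCharacter χ.2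

end pprime

/-- Restriction of Brauer characters to a subgroup. -/
theorem exists_restrict (H : Subgroup G) (s : SimpR hM G) :
    ∃ n : SimpR hM H → ℕ, ∀ y : H, brChar hM s (y : G) = ∑ t, (n t : ℂ) * brChar hM t y := by
  classical
  letI := ModRep.resField hM
  haveI := ModRep.isAlgClosed_res hM
  let ρH : Representation (Res M) H (Fin (sdim s) → Res M) := MonoidHom.comp (sRep s) H.subtype
  obtain ⟨n, hn⟩ := exists_mult_aux (k := Res M) (G := H) ρH
  have hrk : ∀ u : Star.Loc hM H, u * u = u →
      rkS hM s (mapL hM H.subtype u) = ∑ t, n t * rkS hM t u := by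
    intro u hu
    refine Eq.trans ?_ (hn _ (by rw [← map_mul, hu]))
    have e : ∀ a : Star.Loc hM H, (sRep s).asAlgebraHom (Star.rd hM (mapL hM H.subtype a)) =
        ρH.asAlgebraHom (Star.rd hM a) := by
      intro a
      induction a using MonoidAlgebra.induction_linear with
      | zero => simp
      | add a b ha hb => simp only [map_add, ha, hb]
      | single g r =>
        rw [mapL_single, Star.rd, Star.rd, MonoidAlgebra.mapRingHom_single,
          MonoidAlgebra.mapRingHom_single, asAlgebraHom_single, asAlgebraHom_single]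
        rfl
    rw [rkS, rk, rk, e]
  refine ⟨n, fun y => ?_⟩
  by_cases hy : p ∣ orderOf y
  · rw [brChar_of_singular _ (by rwa [Subgroup.orderOf_coe])]
    simp [brChar_of_singular _ hy]
  have hmap : ∀ j, mapL hM H.subtype (eig hM y j) = eig hM (y : G) j := by
    intro j
    have hs : ∀ (r : locRing hM) (a : Star.Loc hM H),
        mapL hM H.subtype (r • a) = r • mapL hM H.subtype a := by
      intro r a
      induction a using MonoidAlgebra.induction_linear with
      | zero => simp
      | add a b ha hb => rw [smul_add, map_add, map_add, smul_add, ha, hb]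
      | single g q =>
        rw [MonoidAlgebra.smul_single, mapL_single, mapL_single, MonoidAlgebra.smul_single]
    simp only [eig, hs, map_sum, mapL_el, Subgroup.orderOf_coe]
    refine congrArg _ (Finset.sum_congr rfl fun i _ => ?_)
    simp [map_pow]
  rw [brChar, if_pos (by rwa [Subgroup.orderOf_coe]), Subgroup.orderOf_coe]
  simp only [← hmap, hrk _ (eig_idem hy _), Nat.cast_sum, Nat.cast_mul, Finset.mul_sum, brChar,
    if_pos hy]
  rw [Finset.sum_comm]
  exact Finset.sum_congr rfl fun t _ => Finset.sum_congr rfl fun j _ => by ring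

/-- The Brauer characters are restrictions of generalized characters. -/
theorem exists_virtual (s : SimpR hM G) :
    ∃ θ : G → ℂ, IsGeneralizedCharacter G θ ∧ ∀ y, ¬ p ∣ orderOf y → θ y = brChar hM s y := by
  classical
  have hp : p.Prime := Fact.out
  have := Fintype.ofFinite G
  obtain ⟨m, hm0, hm1⟩ := Char.exists_pParts_exponent p (Nat.card G) hp Nat.card_pos.ne'
  have hdvd : ∀ y : G, ¬ p ∣ orderOf y → orderOf y ∣ Nat.card G / p ^ (Nat.card G).factorization p := by
    intro y hy
    refine (Nat.Coprime.pow_right ((Nat.card G).factorization p) ((hp.coprime_iff_not_dvd.2 hy).symm)).dvd_of_dvd_mul_left ?_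
    rw [Nat.ordProj_mul_ordCompl_eq_self]
    exact orderOf_dvd_natCard y
  have hfix : ∀ y : G, ¬ p ∣ orderOf y → y ^ m = y := fun y hy => by
    conv_rhs => rw [← pow_one y]
    exact pow_eq_pow_iff_modEq.2 (hm1.of_dvd (hdvd y hy))
  have hkill : ∀ u : G, (∃ j, orderOf u = p ^ j) → u ^ m = 1 := fun u ⟨j, hj⟩ => by
    refine orderOf_dvd_iff_pow_eq_one.1 (hj ▸ (Nat.dvd_trans ?_ hm0))
    refine pow_dvd_pow _ ((hp.pow_dvd_iff_le_factorization Nat.card_pos.ne').1 ?_)
    rw [← hj]; exact orderOf_dvd_natCard u
  refine ⟨fun g => brChar hM s (g ^ m), ?_, fun y hy => by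
    show brChar hM s (y ^ m) = _
    rw [hfix y hy]⟩
  refine Char.brauer_characterization (fun g h => ?_) fun E q hq hE => ?_
  · show brChar hM s ((h * g * h⁻¹) ^ m) = brChar hM s (g ^ m)
    rw [conj_pow]
    exact brChar_conj s _ _
  · haveI := Char.isNilpotent_of_isElementary hq hE
    obtain ⟨P, N, hN, hcomp⟩ := Solvable.hasNormalPComplement_of_isNilpotent (G := E) (p := p)
    haveI := hN
    have hPn : (P : Subgroup E).Normal :=
      P.normal_of_normalizerCondition Group.normalizerCondition_of_isNilpotent
    have hNp : ¬ p ∣ Nat.card N := by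
      rw [← hcomp.index_eq_card]; exact P.not_dvd_index
    have hNpow : ∀ e : E, ∀ n ∈ N, ∀ u ∈ (P : Subgroup E), e = n * u → ((e : G) ^ m) = (n : G) := by
      intro e n hn u hu he
      have hcomm : Commute n u := (Subgroup.commute_of_normal_of_disjoint N (P : Subgroup E) hN hPn
        hcomp.disjoint n u hn hu)
      rw [he, ← SubmonoidClass.coe_pow, hcomm.mul_pow, Subgroup.coe_mul]
      have h1 : ((n ^ m : E) : G) = (n : G) := by
        rw [SubmonoidClass.coe_pow]
        refine hfix _ fun h => hNp ?_
        rw [Subgroup.orderOf_coe] at h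
        have := orderOf_dvd_natCard (⟨n, hn⟩ : N)
        rw [← Subgroup.orderOf_coe] at this
        exact h.trans this
      have h2 : ((u ^ m : E) : G) = 1 := by
        rw [SubmonoidClass.coe_pow]
        obtain ⟨j, hj⟩ := IsPGroup.iff_orderOf.1 P.isPGroup' ⟨u, hu⟩
        refine hkill _ ⟨j, ?_⟩
        rw [Subgroup.orderOf_coe, ← hj, ← Subgroup.orderOf_coe ⟨u, hu⟩]
      rw [h1, h2, mul_one]
    have hdec : ∀ e : E, ∃ n ∈ N, ∃ u ∈ (P : Subgroup E), e = n * u := fun e => by
      obtain ⟨⟨⟨n, hn⟩, ⟨u, hu⟩⟩, h⟩ := hcomp.2 e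
      exact ⟨n, hn, u, hu, h.symm⟩
    let π : E →* E := MonoidHom.mk' (fun e => e ^ m) fun a b => by
      obtain ⟨n, hn, u, hu, rfl⟩ := hdec a
      obtain ⟨n', hn', u', hu', rfl⟩ := hdec b
      have hc : Commute u n' := (Subgroup.commute_of_normal_of_disjoint N (P : Subgroup E) hN hPn
        hcomp.disjoint n' u hn' hu).symm
      apply Subtype.ext
      rw [Subgroup.coe_mul, SubmonoidClass.coe_pow, SubmonoidClass.coe_pow, SubmonoidClass.coe_pow,
        hNpow (n * u) n hn u hu rfl, hNpow (n' * u') n' hn' u' hu' rfl,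
        hNpow (n * u * (n' * u')) (n * n') (N.mul_mem hn hn') (u * u') (P.mul_mem hu hu')
          (by rw [mul_assoc, ← mul_assoc u, hc.eq, mul_assoc, ← mul_assoc n]), Subgroup.coe_mul]
    have hπN : ∀ e, π e ∈ N := fun e => by
      obtain ⟨n, hn, u, hu, he⟩ := hdec e
      have : π e = n := Subtype.ext ((SubmonoidClass.coe_pow e m).trans (hNpow e n hn u hu he))
      rw [this]; exact hn
    obtain ⟨n, hn⟩ := exists_restrict (N.map E.subtype) s
    have hcardN : ¬ p ∣ Nat.card (N.map E.subtype) := by
      rwa [Subgroup.card_map_of_injective E.subtype_injective]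
    let π' : E →* (N.map E.subtype : Subgroup G) :=
      (E.subtype.comp π).codRestrict _ fun e => ⟨π e, hπN e, rfl⟩
    have hfun : (fun e : E => brChar hM s ((e : G) ^ m)) =
        ∑ t, n t • fun e : E => brChar hM t (π' e) := by
      funext e
      rw [show (e : G) ^ m = ((π' e : (N.map E.subtype : Subgroup G)) : G) from
        (SubmonoidClass.coe_pow e m).symm, hn, Finset.sum_apply]
      simp [nsmul_eq_mul]
    show IsGeneralizedCharacter E fun e : E => brChar hM s ((e : G) ^ m)
    rw [hfun]
    refine Char.IsGeneralizedCharacter.sum _ fun t _ => Char.isGeneralizedCharacter_of_isCharacter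
      (Char.IsCharacter.nsmul ?_ _)
    obtain ⟨d, ρ, hρ⟩ := isCharacter_brChar_of_not_dvd (hM := hM) hcardN t
    exact ⟨d, ρ.comp π', funext fun e => congrFun hρ (π' e)⟩

/-- The Brauer characters of a block are integral combinations of its members. -/
theorem exists_brChar_eq {B : Set (IrrCharacter G)} (hB : IsPBlock M B) {s : SimpR hM G}
    (hs : InB hM B s) : ∃ n : IrrCharacter G → ℤ,
      ∀ y, ¬ p ∣ orderOf y → brChar hM s y = ∑ᶠ χ ∈ B, (n χ : ℂ) * (χ : G → ℂ) y := by
  classical
  have := Fintype.ofFinite G
  have := Fintype.ofFinite (IrrCharacter G)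
  obtain ⟨θ, hθ, hθy⟩ := exists_virtual (hM := hM) s
  obtain ⟨n, hn, -, -⟩ := Char.IsGeneralizedCharacter.exists_coeffs hθ
  have hblk : ∀ χ : IrrCharacter G, IsPBlock M (blockOf M (χ : G → ℂ)) := fun χ => ⟨χ, rfl⟩
  choose d hd0 _hdu hd using fun χ : IrrCharacter G =>
    exists_decomp (hM := hM) (hblk χ) (show χ ∈ blockOf M (χ : G → ℂ) from Blocks.sameBlock_refl hM _)
  have hkey : (fun t => if InB hM B t then ∑ χ, (n χ : ℂ) * (d χ t : ℂ) else 0) =
      fun t => if InB hM B t then (if t = s then (1 : ℂ) else 0) else 0 := by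
    have h := coeff_unique (hM := hM) (a := fun t => ∑ χ, (n χ : ℂ) * (d χ t : ℂ))
      (b := fun t => if t = s then (1 : ℂ) else 0) fun y hy => by
        simp only [ite_mul, one_mul, zero_mul, Finset.sum_ite_eq', Finset.mem_univ, if_true]
        rw [← hθy y hy, hn, Finset.sum_apply]
        simp only [Pi.smul_apply, smul_eq_mul, hd _ y hy, Finset.mul_sum, Finset.sum_mul, ← mul_assoc]
        exact Finset.sum_comm
    funext t
    rw [congrFun h t]
  refine ⟨n, fun y hy => ?_⟩
  have e1 : brChar hM s y = ∑ t, (fun t => if InB hM B t then (if t = s then (1 : ℂ) else 0) else 0) t *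
      brChar hM t y := by
    rw [Finset.sum_eq_single s]
    · simp [hs]
    · intro t _ hts; simp [hts]
    · exact fun h => absurd (Finset.mem_univ _) h
  rw [e1, ← hkey, finsum_mem_eq_toFinset_sum]
  simp only [ite_mul, zero_mul, Finset.sum_mul, ← Finset.sum_filter]
  rw [Finset.sum_comm]
  rw [← Finset.sum_subset (Finset.subset_univ B.toFinset)]
  · refine Finset.sum_congr rfl fun χ hχ => ?_
    have hBχ : blockOf M (χ : G → ℂ) = B :=
      isPBlock_eq_of_mem hM (hblk χ) hB (Blocks.sameBlock_refl hM _) (Set.mem_toFinset.1 hχ)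
    rw [hd χ y hy, Finset.mul_sum]
    simp only [← mul_assoc]
    exact Finset.sum_filter_of_ne fun t _ h => by
      by_contra ht
      exact h (by rw [hd0 χ t (hBχ ▸ ht), Int.cast_zero, mul_zero, zero_mul])
  · intro χ _ hχ
    refine Finset.sum_eq_zero fun t ht => ?_
    rw [hd0 χ t fun h => hχ (Set.mem_toFinset.2 ?_), Int.cast_zero, mul_zero, zero_mul]
    have := inB_disjoint (hblk χ) hB h (Finset.mem_filter.1 ht).2
    exact this ▸ Blocks.sameBlock_refl hM _

end Cfsg.Agent.BrauerChar
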